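import Cfsg.Agent.MK.Sp2.BGen
import Cfsg.Agent.Nodes.Slope
import Cfsg.Agent.KFacts.RgdDiag

/-!
# MK, `Sp_{2n}(2)`: root group data with trivial torus (helper43)

* `nw R w` : the representative of `w`;  `cov`, `dis` : Bruhat decomposition;  `covP`, `disP`, `mem_U_of_P` : the double
  cosets of `P_i` and `U`;
* `sn_of_sg`, `sg_times`, `sg_prod` : sign characters of `U`;  `cp_iff` : compatibility in terms of roots;
* `mn_P` : means on `P_i`.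
-/

set_option autoImplicit false
set_option maxHeartbeats 400000
set_option linter.unusedSectionVars false

open scoped ComplexConjugate

namespace Cfsg.Agent.MK.Sp2.B

open CoxeterSystem Cfsg Cfsg.Agent.ChevalleyStructure.CoxeterGeom Cfsg.Agent.Tits.Roots Cfsg.Agent.Tits.Core
  Cfsg.Agent.Nodes.Reps Cfsg.Agent.Nodes.BNOf Cfsg.Agent.Nodes.StabComb Cfsg.Agent.Nodes.Bruhat Cfsg.Agent.Nodes.LeviDec

variable {I W Y : Type} [Fintype I] [DecidableEq I] [Group W] [Finite W] [Group Y] [Finite Y] {M : CoxeterMatrix I}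
  {cs : CoxeterSystem M W} {A : I → I → ℤ} {h : IsCartan M A} {n : I → Y} {X : (I → ℤ) → Subgroup Y}
  {S S' S'' : Set (I → ℤ)} {l l' : Y → ℂ}

theorem sup_ind {S : Set (I → ℤ)} {C : Y → Prop} {g : Y} (hg : g ∈ RGD.Sup X S) (h1 : ∀ x ∈ S, ∀ u ∈ X x, C u) (h2 : C 1)
    (h3 : ∀ u v, C u → C v → C (u * v)) : C g :=
  Subgroup.iSup_induction _ (C := C) hg (fun z u hu => h1 z.1 z.2 u hu) h2 h3

theorem X_le_UU {x : I → ℤ} (hx : IsRoot cs h x) (h0 : 0 ≤ x) : X x ≤ UU cs h X := RGD.le_Sup (S := RGD.Pos cs h) ⟨hx, h0⟩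

theorem sg_val (s : Sg cs h X S l) {x : I → ℤ} (hx : x ∈ RGD.Pos cs h) {u : Y} (hu : u ∈ X x) : l u = 1 ∨ l u = -1 := by
  by_cases h1 : x ∈ S
  · by_cases h2 : u = 1
    · exact Or.inl (h2 ▸ s.one)
    · exact Or.inr (s.neg x hx h1 u hu h2)
  · exact Or.inl (s.pos x hx h1 u hu)

theorem sn_of_sg (s : Sg cs h X S l) : Sn (UU cs h X) l := ⟨s.mul, fun u hu =>
  (sup_ind (C := fun u => u ∈ UU cs h X ∧ (l u = 1 ∨ l u = -1)) hu
    (fun x hx u hu => ⟨X_le_UU hx.1 hx.2 hu, sg_val s hx hu⟩) ⟨one_mem _, Or.inl s.one⟩ fun u v hu hv =>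
      ⟨mul_mem hu.1 hv.1, by
        rw [s.mul u hu.1 v hv.1]
        rcases hu.2 with h1 | h1 <;> rcases hv.2 with h2 | h2 <;> simp [h1, h2]⟩).2⟩

theorem sg_times (s : Sg cs h X S l) (s' : Sg cs h X S' l')
    (hS : ∀ x ∈ RGD.Pos cs h, (x ∈ S'' ↔ x ∈ S ∨ x ∈ S') ∧ ¬ (x ∈ S ∧ x ∈ S')) : Sg cs h X S'' fun u => l u * l' u where
  one := by rw [s.one, s'.one, mul_one]
  mul u hu v hv := by rw [s.mul u hu v hv, s'.mul u hu v hv]; ring
  neg x hx h1 u hu h2 := by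
    rcases (hS x hx).1.1 h1 with h3 | h3
    · rw [s.neg x hx h3 u hu h2, s'.pos x hx (fun h4 => (hS x hx).2 ⟨h3, h4⟩) u hu, mul_one]
    · rw [s'.neg x hx h3 u hu h2, s.pos x hx (fun h4 => (hS x hx).2 ⟨h4, h3⟩) u hu, one_mul]
  pos x hx h1 u hu := by
    rw [s.pos x hx (fun h2 => h1 ((hS x hx).1.2 (Or.inl h2))) u hu,
      s'.pos x hx (fun h2 => h1 ((hS x hx).1.2 (Or.inr h2))) u hu, mul_one]

theorem sr_inj' {i j : I} (e : (sr i : I → ℤ) = sr j) : i = j := by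
  by_contra h1
  have := congrFun e i
  simp [sr, h1] at this

theorem sg_prod {ψ : I → Y → ℂ} (s : ∀ i, Sg cs h X {sr i} (ψ i)) (J : Finset I)
    (hS : ∀ x ∈ RGD.Pos cs h, x ∈ S ↔ ∃ i ∈ J, x = sr i) : Sg cs h X S fun u => ∏ i ∈ J, ψ i u where
  one := Finset.prod_eq_one fun i _ => (s i).one
  mul u hu v hv := by rw [← Finset.prod_mul_distrib]; exact Finset.prod_congr rfl fun i _ => (s i).mul u hu v hv
  neg x hx h1 u hu h2 := by
    obtain ⟨i, hi, rfl⟩ := (hS x hx).1 h1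
    rw [Finset.prod_eq_single_of_mem i hi fun j _ hj => (s j).pos _ hx (fun e => hj (sr_inj' e).symm) u hu]
    exact (s i).neg _ hx rfl u hu h2
  pos x hx h1 u hu := Finset.prod_eq_one fun i hi => (s i).pos x hx (fun e => h1 ((hS x hx).2 ⟨i, hi, e⟩)) u hu

variable (R : RGD cs h 2 ⊥ n X)

/-- the representative -/
noncomputable def nw (w : W) : Y := (exists_rp cs R.nsys w).choose

theorem rp_nw (w : W) : Rp cs R.nsys w (nw R w) := (exists_rp cs R.nsys w).choose_spec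

theorem eq_nw {w : W} {g : Y} (hg : Rp cs R.nsys w g) : g = nw R w :=
  inv_mul_eq_one.1 (Subgroup.mem_bot.1 (hg.unique (rp_nw R w)))

theorem nw_mul (v w : W) : nw R (v * w) = nw R v * nw R w := (eq_nw R ((rp_nw R v).mul (rp_nw R w))).symm

theorem nw_inv (w : W) : nw R w⁻¹ = (nw R w)⁻¹ := (eq_nw R (rp_nw R w).inv).symm

theorem nw_simple (i : I) : nw R (cs.simple i) = n i := (eq_nw R (rp_simple cs R.nsys i)).symm

theorem nw_one : nw R 1 = 1 := (eq_nw R rp_one).symm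

theorem mem_B_iff {g : Y} : g ∈ RGD.B cs h ⊥ X ↔ g ∈ UU cs h X := by rw [RGD.B, bot_sup_eq]

theorem cell_iff {w : W} {g : Y} : Cell R.nsys cs h X w g ↔ ∃ a ∈ UU cs h X, ∃ b ∈ UU cs h X, g = a * nw R w * b :=
  ⟨fun ⟨a, ha, _, hk, b, hb, e⟩ => ⟨a, mem_B_iff.1 ha, b, mem_B_iff.1 hb, eq_nw R hk ▸ e⟩,
    fun ⟨a, ha, b, hb, e⟩ => ⟨a, mem_B_iff.2 ha, _, rp_nw R w, b, mem_B_iff.2 hb, e⟩⟩

theorem cov (hG : GG cs h ⊥ X = ⊤) (g : Y) : ∃ w, ∃ a ∈ UU cs h X, ∃ b ∈ UU cs h X, g = a * nw R w * b := by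
  obtain ⟨w, hw⟩ := (mem_GG R (g := g)).1 (hG ▸ Subgroup.mem_top g)
  exact ⟨w, (cell_iff R).1 hw⟩

theorem dis (v w : W) (a : Y) (ha : a ∈ UU cs h X) (b : Y) (hb : b ∈ UU cs h X) (e : nw R w = a * nw R v * b) : v = w :=
  Cell.unique R ((cell_iff R).2 ⟨a, ha, b, hb, e⟩) (cell_of_rp (rp_nw R w))

theorem U_le_P (J : Set I) : UU cs h X ≤ PJ cs h ⊥ X J := fun _ hg => B_le_PJ (mem_B_iff.2 hg)

include R

theorem n_mem_P (i : I) : n i ∈ PJ cs h ⊥ X {i} := LJ_le_PJ (n_mem_LJ R rfl)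

theorem n_sq (i : I) : n i * n i = 1 := Subgroup.mem_bot.1 (R.sq_mem_T i)

theorem mem_P {i : I} {g : Y} (hg : g ∈ PJ cs h ⊥ X {i}) :
    g ∈ UU cs h X ∨ ∃ a ∈ UU cs h X, ∃ b ∈ UU cs h X, g = a * n i * b := by
  obtain ⟨w, h1, h2⟩ := (mem_PJ_iff_cell R).1 hg
  rcases KFacts.RgdDiag.mem_WJ_singleton h1 with rfl | rfl
  · exact Or.inl (mem_B_iff.1 h2.mem_of_one)
  · exact Or.inr (nw_simple R i ▸ (cell_iff R).1 h2)

omit R in
theorem neg_act (i : I) (w : W) : rep cs h (cs.simple i * w)⁻¹ (sr i) = -rep cs h w⁻¹ (sr i) := by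
  rw [mul_inv_rev, inv_simple, rep_mul_apply, rep_simple_sr, map_neg]

theorem covP (hG : GG cs h ⊥ X = ⊤) (i : I) (g : Y) : ∃ w : {w : W // 0 ≤ rep cs h w⁻¹ (sr i)}, ∃ a ∈ PJ cs h ⊥ X {i},
    ∃ b ∈ UU cs h X, g = a * nw R w * b := by
  obtain ⟨w, a, ha, b, hb, rfl⟩ := cov R hG g
  rcases ((isRoot_sr cs h i).act w⁻¹).pos_or_neg with h1 | h1
  · exact ⟨⟨w, h1⟩, a, U_le_P _ ha, b, hb, rfl⟩
  · refine ⟨⟨cs.simple i * w, by rwa [neg_act, neg_nonneg]⟩, a * n i, mul_mem (U_le_P _ ha) (n_mem_P R i), b, hb, ?_⟩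
    rw [nw_mul, nw_simple, mul_assoc a (n i), ← mul_assoc (n i), n_sq R, one_mul]

theorem cell_P {i : I} {w : W} (hw : 0 ≤ rep cs h w⁻¹ (sr i)) {a : Y} (ha : a ∈ PJ cs h ⊥ X {i}) (ha' : a ∉ UU cs h X) :
    Cell R.nsys cs h X (cs.simple i * w) (a * nw R w) := by
  rcases mem_P R ha with h1 | h1
  · exact absurd h1 ha'
  rcases Cell.simple_mul R ((cell_iff R).2 (nw_simple R i ▸ h1)) (cell_of_rp (rp_nw R w)) with h2 | ⟨h2, -⟩
  · exact h2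
  · refine absurd (nonpos_of_lt cs h w⁻¹ i ?_) (((isRoot_sr cs h i).act w⁻¹).not_pos_neg hw)
    rwa [← cs.length_inv, mul_inv_rev, inv_inv, inv_simple, cs.length_inv]

theorem disP (i : I) (v w : {w : W // 0 ≤ rep cs h w⁻¹ (sr i)}) (a : Y) (ha : a ∈ PJ cs h ⊥ X {i}) (b : Y)
    (hb : b ∈ UU cs h X) (e : nw R w = a * nw R v * b) : v = w := by
  by_cases h1 : a ∈ UU cs h X
  · exact Subtype.ext (dis R _ _ a h1 b hb e)
  have h2 := Cell.unique R ((cell_P R v.2 ha h1).mul_right (mem_B_iff.2 hb)) (e ▸ cell_of_rp (rp_nw R w))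
  have h3 := w.2
  rw [← h2, neg_act, neg_nonneg] at h3
  exact absurd h3 (((isRoot_sr cs h i).act _).not_pos_neg v.2)

theorem mem_U_of_P {i : I} {w : W} (hw : 0 ≤ rep cs h w⁻¹ (sr i)) {q : Y} (hq : q ∈ PJ cs h ⊥ X {i})
    (hq' : (nw R w)⁻¹ * q * nw R w ∈ UU cs h X) : q ∈ UU cs h X := by
  by_contra h1
  have h2 := Cell.unique R (cell_P R hw hq h1) ((cell_iff R).2 ⟨1, one_mem _, _, hq', by group⟩ : Cell _ cs h X w _)
  exact KFacts.RgdDiag.simple_ne_one i (mul_eq_right.1 h2)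

theorem cp_iff (s : Sg cs h X S l) (s' : Sg cs h X S' l') (w : W) : Cp (UU cs h X) (UU cs h X) l l' (nw R w) ↔
    ∀ x, IsRoot cs h x → 0 ≤ x → 0 ≤ rep cs h w⁻¹ x → (x ∈ S ↔ rep cs h w⁻¹ x ∈ S') := by
  have h0 : ∀ {u : Y}, u ≠ 1 → (nw R w)⁻¹ * u * nw R w ≠ 1 := fun {u} hu e => hu (by
    rwa [mul_assoc, inv_mul_eq_one, eq_comm, mul_eq_right] at e)
  constructor
  · intro c x hx h1 h2
    obtain ⟨⟨u, hu⟩, h3⟩ := Subgroup.ne_bot_iff_exists_ne_one.1 (X_ne_bot R hx)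
    have h4 : u ≠ 1 := fun e => h3 (Subtype.ext e)
    have h5 := R.conj_mem' (rp_nw R w) hx hu
    have h6 := c u (X_le_UU hx h1 hu) (X_le_UU (hx.act _) h2 h5)
    constructor
    · intro h7
      by_contra h8
      rw [s.neg x ⟨hx, h1⟩ h7 u hu h4, s'.pos _ ⟨hx.act _, h2⟩ h8 _ h5] at h6
      norm_num at h6
    · intro h7
      by_contra h8
      rw [s.pos x ⟨hx, h1⟩ h8 u hu, s'.neg _ ⟨hx.act _, h2⟩ h7 _ h5 (h0 h4)] at h6
      norm_num at h6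
  · intro c q hq hq'
    refine (sup_ind (C := fun u => u ∈ UU cs h X ∧ (nw R w)⁻¹ * u * nw R w ∈ UU cs h X ∧
      l u = l' ((nw R w)⁻¹ * u * nw R w)) (Nodes.Slope.mem_of_conj_mem_B R (rp_nw R w) hq (mem_B_iff.2 hq'))
      (fun x ⟨hx, h1, h2⟩ u hu => ?_) ⟨one_mem _, by simp, by simp [s.one, s'.one]⟩ fun u v hu hv => ?_).2.2
    · have h5 := R.conj_mem' (rp_nw R w) hx hu
      refine ⟨X_le_UU hx h1 hu, X_le_UU (hx.act _) h2 h5, ?_⟩
      by_cases h3 : u = 1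
      · simp [h3, s.one, s'.one]
      by_cases h4 : x ∈ S
      · rw [s.neg x ⟨hx, h1⟩ h4 u hu h3, s'.neg _ ⟨hx.act _, h2⟩ ((c x hx h1 h2).1 h4) _ h5 (h0 h3)]
      · rw [s.pos x ⟨hx, h1⟩ h4 u hu, s'.pos _ ⟨hx.act _, h2⟩ (mt (c x hx h1 h2).2 h4) _ h5]
    · rw [show (nw R w)⁻¹ * (u * v) * nw R w = ((nw R w)⁻¹ * u * nw R w) * ((nw R w)⁻¹ * v * nw R w) by group]
      exact ⟨mul_mem hu.1 hv.1, mul_mem hu.2.1 hv.2.1, by rw [s.mul _ hu.1 _ hv.1, s'.mul _ hu.2.1 _ hv.2.1, hu.2.2, hv.2.2]⟩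

theorem n_not_mem (i : I) : n i ∉ UU cs h X := fun hn =>
  KFacts.RgdDiag.simple_ne_one i (R.eq_one_of_mem_B (rp_simple cs R.nsys i) (mem_B_iff.2 hn))

/-- the root group of order two and the braid relation -/
theorem exists_t {i : I} (s : Sg cs h X {sr i} l) :
    ∃ t, t ≠ 1 ∧ (∀ x, x ∈ X (sr i) ↔ x = 1 ∨ x = t) ∧ n i = (n i * t)⁻¹ * t * (n i * t) := by
  have hr := isRoot_sr cs h i
  have hp : sr i ∈ RGD.Pos cs h := ⟨hr, sr_nonneg i⟩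
  obtain ⟨t, ht, h1⟩ := exists_ne_one R i
  have h2 : ∀ x ∈ X (sr i), x ≠ 1 → x * t = 1 := fun x hx h3 => by
    by_contra h4
    have h5 := s.neg _ hp rfl _ (mul_mem hx ht) h4
    rw [s.mul _ (X_le_UU hr hp.2 hx) _ (X_le_UU hr hp.2 ht), s.neg _ hp rfl _ hx h3, s.neg _ hp rfl _ ht h1] at h5
    norm_num at h5
  have h3 := h2 t ht h1
  have h4 : ∀ x, x ∈ X (sr i) ↔ x = 1 ∨ x = t := fun x => ⟨fun hx => by
    by_cases h5 : x = 1
    · exact Or.inl h5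
    · exact Or.inr (mul_right_cancel ((h2 x hx h5).trans h3.symm)), by rintro (rfl | rfl); exacts [one_mem _, ht]⟩
  refine ⟨t, h1, h4, ?_⟩
  have h5 := R.conj_mem (rp_simple cs R.nsys i) hr ht
  rw [rep_simple_sr] at h5
  obtain ⟨a, ha, z, hz, b, hb, e⟩ := R.rk1 i _ h5 fun e => h1 (by rwa [mul_inv_eq_one, mul_eq_left] at e)
  obtain rfl := Subgroup.mem_bot.1 hz
  have h6 := n_sq R i
  have h7 := n_not_mem R i
  have h8 : t ∈ UU cs h X := X_le_UU hr hp.2 ht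
  rw [mul_one, inv_eq_of_mul_eq_one_right h6] at e
  rcases (h4 a).1 ha with rfl | rfl <;> rcases (h4 b).1 hb with rfl | rfl
  · rw [one_mul, mul_one, mul_assoc, mul_eq_left] at e
    exact absurd (by rw [← inv_eq_of_mul_eq_one_right e]; exact inv_mem h8) h7
  · rw [one_mul, mul_eq_left] at e
    exact absurd (e ▸ one_mem _) h7
  · rw [mul_one, mul_left_inj, mul_eq_right] at e
    exact absurd (e ▸ one_mem _) h7
  · rw [mul_inv_rev, inv_eq_of_mul_eq_one_right h6, inv_eq_of_mul_eq_one_right h3]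
    calc n i = b * (b * n i * b) * b := by rw [← mul_assoc, ← mul_assoc, h3, one_mul, mul_assoc, h3, mul_one]
      _ = b * (n i * b * n i) * b := by rw [e]
      _ = _ := by group

/-- the means on `P_i` of the functions which vanish on the even part -/
theorem mn_P {i : I} (s : Sg cs h X {sr i} l) {σ F : Y → ℂ} (s' : Sn (PJ cs h ⊥ X {i}) σ) (hσ : ∀ u ∈ UU cs h X, σ u = l u)
    (hF : Cl (PJ cs h ⊥ X {i}) F) (h0 : ∀ x ∈ PJ cs h ⊥ X {i}, σ x = 1 → F x = 0) :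
    mn (PJ cs h ⊥ X {i}) F = mn (UU cs h X) F := by
  obtain ⟨t, h1, h2, h3⟩ := exists_t R s
  have h4 : X (sr i) ≤ UU cs h X := X_le_UU (isRoot_sr cs h i) (sr_nonneg i)
  have h5 : t ∈ PJ cs h ⊥ X {i} := U_le_P _ (h4 ((h2 t).2 (Or.inr rfl)))
  have h6 := n_mem_P R i
  have h7 : ∀ v ∈ VJ cs h X {i}, σ v = 1 := fun v hv => by
    rw [hσ v (VJ_le_U _ hv)]
    refine (sup_ind (C := fun u => u ∈ UU cs h X ∧ l u = 1) hv (fun x hx u hu => ⟨X_le_UU hx.1 hx.2.1 hu,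
      s.pos x ⟨hx.1, hx.2.1⟩ (fun e => ?_) u hu⟩) ⟨one_mem _, s.one⟩ fun u v hu hv =>
        ⟨mul_mem hu.1 hv.1, by rw [s.mul _ hu.1 _ hv.1, hu.2, hv.2, mul_one]⟩).2
    obtain ⟨-, -, j, h8, h9⟩ := hx
    obtain rfl : x = sr i := e
    rw [sr, Pi.single_eq_of_ne h8] at h9
    exact lt_irrefl _ h9
  refine mn_three hF (U_le_P _) (VJ_le_U {i}) h4 h1 h2 (fun x hx => ?_) h6 (fun x => mem_P R) (PJ_le_normalizer_VJ R _)
    (mul_mem h6 h5) h3 (fun v hv => h0 v (VJ_le_PJ hv) (h7 v hv)) fun v hv =>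
      h0 _ (mul_mem (mul_mem h6 h5) (VJ_le_PJ hv)) ?_
  · rw [← KFacts.RgdDiag.UJ_singleton (cs := cs) (h := h) (X := X)]
    exact (mem_U_iff R).1 hx
  · have h8 := s'.cl t h5 _ (inv_mem (mul_mem h6 h5))
    rw [inv_inv, ← h3] at h8
    rw [s'.mul _ (mul_mem h6 h5) _ (VJ_le_PJ hv), h7 v hv, mul_one, s'.mul _ h6 _ h5, h8, s'.self h5]

end Cfsg.Agent.MK.Sp2.B
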