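import Cfsg.Agent.MK.Sp2.Dual
import Cfsg.Agent.MK.Sp2.BRgd
import Cfsg.Agent.H142.McKayCount

/-!
# MK, `Sp_{2n}(2)`: the count (helper82)

`f = (1 + σ η) ∏ (1 - ψ i)` is a signed sum of all linear characters of `U`; the dual of `Ind f` is `Γ + σ Gc`.

* `inner_DD` : `[Ind φ, D g]`;  `dual_B`, `dual_C` : the two cases;
* `k0_eq` : `Y` and `U` have the same number of irreducible characters of odd degree.
-/

set_option autoImplicit false
set_option linter.unusedSectionVars false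

open scoped ComplexConjugate

namespace Cfsg.Agent.MK.Sp2

open Cfsg Cfsg.Agent.Characters Cfsg.Agent.Characters.Core
open Cfsg.Agent.H53.HC Cfsg.Agent.H641.Gow Cfsg.Agent.H45.GG
open CoxeterSystem Cfsg.Agent.ChevalleyStructure.CoxeterGeom Cfsg.Agent.Tits.Roots Cfsg.Agent.Tits.Core
  Cfsg.Agent.Tits.Exchange Cfsg.Agent.Nodes.Reps Cfsg.Agent.Nodes.BNOf Cfsg.Agent.Nodes.StabComb
  Cfsg.Agent.Nodes.Bruhat Cfsg.Agent.Nodes.OppDec Cfsg.Agent.Nodes.LeviDec
open Cfsg.Agent.H705.Dl.PsRgd (rp rp_spec PJ_empty)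
open Cfsg.Agent.MK.Sp2.B
open Cfsg.Agent.Blocks.Basic (irr_one_eq_charDegree)

variable {I W Y : Type} [Fintype I] [DecidableEq I] [Group W] [Group Y] {M : CoxeterMatrix I} [Fintype W] [Fintype Y]
  {cs : CoxeterSystem M W} {A : I → I → ℤ} {h : IsCartan M A} {n : I → Y} {X : (I → ℤ) → Subgroup Y}
  {S : Set (I → ℤ)} {l φ F g η : Y → ℂ} {a b i : I} {ψ : I → Y → ℂ} {J : Set I} {w : W} {x : I → ℤ} {q u v : Y}

theorem alt_one (s : Finset I) (c : I → ℂ) :
    ∑ t ∈ s.powerset, (-1) ^ t.card * ∏ i ∈ t, c i = ∏ i ∈ s, (1 - c i) := by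
  rw [Finset.prod_sub]
  simp

theorem alt_two (hab : a ≠ b) (c : Finset I → ℂ) :
    ∑ t : Finset I, (-1) ^ t.card * (if a ∈ t ∧ b ∈ t then c ((t.erase a).erase b) else 0) =
      ∑ t ∈ ((Finset.univ.erase a).erase b).powerset, (-1) ^ t.card * c t := by
  have h1 : b ∈ Finset.univ.erase a := by simp [hab.symm]
  rw [← Finset.powerset_univ, ← Finset.insert_erase (Finset.mem_univ a),
    Finset.sum_powerset_insert (Finset.notMem_erase a _), Finset.erase_insert (Finset.notMem_erase a _),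
    Finset.sum_eq_zero fun t ht => by
      rw [if_neg fun h2 => Finset.notMem_erase a _ (Finset.mem_powerset.1 ht h2.1), mul_zero], zero_add,
    ← Finset.insert_erase h1, Finset.sum_powerset_insert (Finset.notMem_erase b _),
    Finset.erase_insert (Finset.notMem_erase b _), Finset.sum_eq_zero fun t ht => by
      rw [if_neg fun h2 => Finset.notMem_erase b _ (Finset.mem_powerset.1 ht
        ((Finset.mem_insert.1 h2.2).resolve_left hab.symm)), mul_zero], zero_add]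
  refine Finset.sum_congr rfl fun t ht => ?_
  have h2 : b ∉ t := fun h2 => Finset.notMem_erase b _ (Finset.mem_powerset.1 ht h2)
  have h3 : a ∉ insert b t := fun h3 => Finset.notMem_erase a _ (Finset.mem_of_mem_erase
    (Finset.mem_powerset.1 ht ((Finset.mem_insert.1 h3).resolve_left hab)))
  rw [if_pos ⟨by simp, by simp⟩, Finset.erase_insert h3, Finset.erase_insert h2, Finset.card_insert_of_notMem h3,
    Finset.card_insert_of_notMem h2]
  ring

theorem two_ne (hab : a ≠ b) {y : I → ℤ} (hy : 0 ≤ y) : sr a + sr b + y ≠ sr i := fun e => by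
  have h1 := congrFun e a
  have h2 := congrFun e b
  have h3 : 0 ≤ y a := hy a
  have h4 : 0 ≤ y b := hy b
  simp only [Pi.add_apply, sr_self, sr_ne hab, sr_ne hab.symm] at h1 h2
  by_cases h5 : a = i
  · subst h5
    rw [sr_ne hab.symm] at h2
    omega
  · rw [sr_ne h5] at h1
    omega

theorem sr_pos (i : I) : sr i ∈ RGD.Pos cs h := ⟨isRoot_sr cs h i, sr_nonneg i⟩

namespace Sg

variable (s : Sg cs h X S l)

include s

theorem triv {Z : Set (I → ℤ)} (hZ : ∀ x ∈ Z, x ∈ RGD.Pos cs h ∧ x ∉ S) (hu : u ∈ RGD.Sup X Z) : l u = 1 :=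
  (sup_ind (C := fun u => u ∈ UU cs h X ∧ l u = 1) hu
    (fun x hx u hu => ⟨X_le_UU (hZ x hx).1.1 (hZ x hx).1.2 hu, s.pos x (hZ x hx).1 (hZ x hx).2 u hu⟩) ⟨one_mem _, s.one⟩
    fun u v hu hv => ⟨mul_mem hu.1 hv.1, by rw [s.mul u hu.1 v hv.1, hu.2, hv.2, mul_one]⟩).2

theorem mul_pos (hx : x ∈ RGD.Pos cs h) (h1 : x ∉ S) (hq : q ∈ UU cs h X) (hu : u ∈ X x) : l (q * u) = l q := by
  rw [s.mul q hq u (X_le_UU hx.1 hx.2 hu), s.pos x hx h1 u hu, mul_one]

theorem mul_neg (hx : x ∈ RGD.Pos cs h) (h1 : x ∈ S) (hq : q ∈ UU cs h X) (hu : u ∈ X x) (h2 : u ≠ 1) :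
    l (q * u) = -l q := by
  rw [s.mul q hq u (X_le_UU hx.1 hx.2 hu), s.neg x hx h1 u hu h2, mul_neg_one]

theorem mul_V (hS : ∀ x ∈ S, x ∉ NotJ cs h J) (hu : u ∈ UU cs h X) (hv : v ∈ VJ cs h X J) : l (u * v) = l u := by
  rw [s.mul u hu v (mem_B_iff.1 (VJ_le_B J hv)), s.triv (fun x hx => ⟨⟨hx.1, hx.2.1⟩, fun h1 => hS x h1 hx⟩) hv, mul_one]

end Sg

theorem sim_iff (hw : Op cs h J w⁻¹) (h0 : 0 ≤ rep cs h w⁻¹ x) : (∃ j, x = sr j) ↔ ∃ i ∈ J, rep cs h w⁻¹ x = sr i := by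
  constructor
  · rintro ⟨j, rfl⟩
    exact hw.mp.1 j (mem_Asc.2 h0)
  · rintro ⟨i, hi, e⟩
    obtain ⟨j, -, e'⟩ := hw.mp.2 i hi
    exact ⟨j, by rw [← e', ← e, rep_inv_apply]⟩

theorem fix_iff {y : I → ℤ} (e : rep cs h w y = y) : x = y ↔ rep cs h w x = y :=
  ⟨fun h1 => by rw [h1, e], fun h1 => rep_injective_apply cs h w (h1.trans e.symm)⟩

theorem Dat.fix (D : Dat cs h X a b ψ η) (hw : Op cs h J w⁻¹)
    (h1 : (a ∈ J ∧ b ∈ J) ∨ (0 ≤ rep cs h w⁻¹ (sr a) ∧ 0 ≤ rep cs h w⁻¹ (sr b))) :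
    (a ∈ J ∧ b ∈ J) ∧ rep cs h w⁻¹ (sr a) = sr a ∧ rep cs h w⁻¹ (sr b) = sr b := by
  rcases h1 with h1 | h1
  · obtain ⟨i, -, e⟩ := hw.mp.2 a h1.1
    obtain ⟨j, -, e'⟩ := hw.mp.2 b h1.2
    have h2 := D.r2.act w⁻¹⁻¹
    rw [map_add, map_add, e, e'] at h2
    obtain ⟨rfl, rfl⟩ := D.uniq i j h2
    exact ⟨h1, by rw [← e, rep_apply_inv, e], by rw [← e', rep_apply_inv, e']⟩
  · obtain ⟨i, hi, e⟩ := hw.mp.1 a (mem_Asc.2 h1.1)
    obtain ⟨j, hj, e'⟩ := hw.mp.1 b (mem_Asc.2 h1.2)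
    have h2 := D.r2.act w⁻¹
    rw [map_add, map_add, e, e'] at h2
    obtain ⟨rfl, rfl⟩ := D.uniq i j h2
    exact ⟨⟨hi, hj⟩, e, e'⟩

theorem exists_not (hR : IsMinR cs J w) (hw : ¬ Op cs h J w⁻¹) : ∃ i, rep cs h w⁻¹ (sr i) ∈ NotJ cs h J := by
  by_contra h1
  push Not at h1
  exact hw (op_of (fun j hj => by rw [inv_inv]; exact minR_iff.1 hR j hj) h1)

theorem Op.minR (hw : Op cs h J w⁻¹) : IsMinR cs J w :=
  (minR_iff (h := h)).2 fun i hi => by simpa only [inv_inv] using hw.1 _ (sr_mem_PosJ hi)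

theorem Dat.ab_pos (D : Dat cs h X a b ψ η) : sr a + sr b ∈ RGD.Pos cs h :=
  ⟨D.r1, add_nonneg (sr_nonneg a) (sr_nonneg b)⟩

theorem Dat.ab_ne (D : Dat cs h X a b ψ η) (i : I) : sr a + sr b ∉ ({sr i} : Set (I → ℤ)) := by
  simpa using two_ne (i := i) D.ne le_rfl

theorem Dat.sr_ne (D : Dat cs h X a b ψ η) (i : I) : sr i ∉ ({sr a + sr b, sr a + sr b + sr b} : Set (I → ℤ)) := by
  rintro (e | e)
  · exact D.ab_ne i e.symm
  · exact two_ne D.ne (sr_nonneg b) e.symm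

variable (R : RGD cs h 2 ⊥ n X)

include R

theorem exists_ne (hx : IsRoot cs h x) : ∃ u ∈ X x, u ≠ 1 := by
  obtain ⟨⟨u, hu⟩, h3⟩ := Subgroup.ne_bot_iff_exists_ne_one.1 (X_ne_bot R hx)
  exact ⟨u, hu, fun e => h3 (Subtype.ext e)⟩

theorem PJ_U : PJ cs h ⊥ X ∅ = UU cs h X := by rw [PJ_empty R, RGD.B, bot_sup_eq]

theorem dd_U (hR : IsMinR cs J w) (hq : q ∈ dd (PJ cs h ⊥ X ∅) (PJ cs h ⊥ X J) (nw R w)) :
    q ∈ UU cs h X ∧ (nw R w)⁻¹ * q * nw R w ∈ UU cs h X := by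
  obtain ⟨h1, h2⟩ := mem_dd.1 hq
  rw [PJ_U R] at h1
  exact ⟨h1, mem_B_iff.1 (cj_mem_B R (rp_nw R w) hR (mem_B_iff.2 h1) h2)⟩

theorem psi_one (s : Sg cs h X {sr i} l) (h1 : ¬ 0 ≤ rep cs h w⁻¹ (sr i)) (hq : q ∈ UU cs h X)
    (hq' : (nw R w)⁻¹ * q * nw R w ∈ UU cs h X) : l q = 1 :=
  s.triv (fun _ hx => ⟨⟨hx.1, hx.2.1⟩, fun e => h1 (Set.mem_singleton_iff.1 e ▸ hx.2.2)⟩)
    (Nodes.Slope.mem_of_conj_mem_B R (rp_nw R w) hq (mem_B_iff.2 hq'))

theorem tm_sign (hx : x ∈ RGD.Pos cs h) (h1 : rep cs h w⁻¹ x ∈ NotJ cs h J)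
    (h2 : ∀ q ∈ UU cs h X, ∀ u ∈ X x, u ≠ 1 → φ (q * u) = -φ q) : Tm cs h ⊥ X ∅ φ J (nw R w) g = 0 := by
  obtain ⟨u, hu, h3⟩ := exists_ne R hx.1
  have h4 : (nw R w)⁻¹ * u * nw R w ∈ VJ cs h X J :=
    RGD.le_Sup (S := NotJ cs h J) h1 (R.conj_mem' (rp_nw R w) hx.1 hu)
  refine mn_sign (a := u) (mem_dd.2 ⟨by rw [PJ_U R]; exact X_le_UU hx.1 hx.2 hu, VJ_le_PJ h4⟩) fun q hq => ?_
  rw [h2 q (by rw [← PJ_U R]; exact (mem_dd.1 hq).1) u hu h3, ← av_mul ((nw R w)⁻¹ * q * nw R w) h4, neg_mul]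
  congr 4
  group

theorem tm_op (hw : Op cs h J w⁻¹) (h1 : Cp (UU cs h X) (UU cs h X) φ F (nw R w))
    (h2 : ∀ u ∈ UU cs h X, ∀ v ∈ VJ cs h X J, F (u * v) = F u) :
    Tm cs h ⊥ X ∅ φ J (nw R w) g = mn (UU cs h X) fun u => F u * conj (g u) := by
  have h3 : ∀ q, q ∈ dd (PJ cs h ⊥ X ∅) (PJ cs h ⊥ X J) (nw R w) ↔
      (nw R w)⁻¹ * q * nw R w ∈ dd (PJ cs h ⊥ X J) (PJ cs h ⊥ X ∅) (nw R w)⁻¹ :=
    fun q => by simp [mem_dd, mul_assoc, and_comm]
  have h4 : VJ cs h X J ≤ UU cs h X := fun v hv => mem_B_iff.1 (VJ_le_B J hv)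
  have h5 : dd (PJ cs h ⊥ X J) (PJ cs h ⊥ X ∅) (nw R w)⁻¹ ≤ UU cs h X := fun y hy => by
    have e : y = (nw R w)⁻¹ * (nw R w * y * (nw R w)⁻¹) * nw R w := by group
    rw [e] at hy ⊢
    exact (dd_U R hw.minR ((h3 _).2 hy)).2
  rw [Tm, mn_congr (F' := fun q => F ((nw R w)⁻¹ * q * nw R w) * conj (av (VJ cs h X J) g ((nw R w)⁻¹ * q * nw R w)))
    fun q hq => by rw [h1 q (dd_U R hw.minR hq).1 (dd_U R hw.minR hq).2],
    mn_cj h3 fun y => F y * conj (av (VJ cs h X J) g y), ← mn_av' h4 h2, mn_prod h5 h4 fun y hy => by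
      obtain ⟨u, hu, v, hv, rfl⟩ := (mem_U_iff R (J := J)).1 hy
      refine ⟨u, mem_dd.2 ⟨U_le_P J (RGD.Sup_mono (S := PosJ cs h J) (S' := RGD.Pos cs h)
        (fun x hx => ⟨hx.1, hx.2.1⟩) hu), ?_⟩, v, hv, rfl⟩
      rw [inv_inv, PJ_U R]
      exact conj_mem_Sup R (rp_nw R w) (S := PosJ cs h J) (S' := RGD.Pos cs h) (fun x hx => hx.1)
        (fun x hx => ⟨hx.1.act w, by simpa only [inv_inv] using hw.1 x hx⟩) hu]
  refine mn_congr fun y hy => ?_
  rw [mn_congr (F' := fun _ => F y * conj (av (VJ cs h X J) g y)) fun v hv => by rw [h2 y (h5 hy) v hv, av_mul y hv],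
    mn_const]

variable (hG : GG cs h ⊥ X = ⊤)

include hG

theorem inner_DD (F : Finset I → Y → ℂ) (hφ : Cl (UU cs h X) φ)
    (h0 : ∀ (J : Finset I) w, IsMinR cs J w → ¬ Op cs h J w⁻¹ → Tm cs h ⊥ X ∅ φ J (nw R w) g = 0)
    (h1 : ∀ (J : Finset I) w, Op cs h J w⁻¹ → Cp (UU cs h X) (UU cs h X) φ (F J) (nw R w))
    (h2 : ∀ J : Finset I, ∀ u ∈ UU cs h X, ∀ v ∈ VJ cs h X J, F J (u * v) = F J u) (hg : IsClassFunction Y g) :
    classInner (ii (UU cs h X) φ) (DD cs h ⊥ X g) =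
      mn (UU cs h X) fun u => (∑ J : Finset I, (-1) ^ J.card * F J u) * conj (g u) := by
  have h3 := mackey R hG (K := ∅) (φ := φ) (by rwa [PJ_U R]) hg
  rw [PJ_U R] at h3
  simp only [h3, Finset.sum_mul, mul_assoc, mn_sum, mn_mul]
  refine Finset.sum_congr rfl fun J _ => ?_
  obtain ⟨w, hw⟩ := exists_op (cs := cs) (h := h) (J : Set I)
  rw [← inv_inv w] at hw
  rw [Finset.sum_eq_single w⁻¹, if_pos ⟨(minL_iff (h := h)).2 fun _ hi => hi.elim, hw.minR⟩, eq_nw R (rp_spec R w⁻¹),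
    tm_op R hw (h1 J _ hw) (h2 J)]
  · intro v _ hv
    split_ifs with h4
    · rw [eq_nw R (rp_spec R v)]
      exact h0 J v h4.2 fun h5 => hv (inv_injective (h5.uniq hw))
    · rfl
  · simp

variable (D : Dat cs h X a b ψ η)

include D

theorem dual_B (hg : IsClassFunction Y g) : classInner (ii (UU cs h X) (phB ψ)) (DD cs h ⊥ X g) =
    mn (UU cs h X) fun u => (∏ i, (1 - ψ i u)) * conj (g u) := by
  have s : ∀ J : Finset I, Sg cs h X {x | ∃ i ∈ J, x = sr i} fun u => ∏ i ∈ J, ψ i u :=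
    fun J => sg_prod D.psi J fun _ _ => Iff.rfl
  rw [inner_DD R hG (φ := phB ψ) (fun J u => ∏ i ∈ J, ψ i u) (sn_of_sg (s Finset.univ)).cl (fun J w hR hw => ?_)
    (fun J w hw => (cp_iff R (s Finset.univ) (s J) w).2 fun x _ _ h0 => by simpa using sim_iff hw h0)
    (fun J u hu v hv => (s J).mul_V (by
      rintro _ ⟨i, hi, rfl⟩
      exact sr_not_NotJ hi) hu hv) hg]
  · simp only [← alt_one, Finset.powerset_univ]
  · obtain ⟨i, hi⟩ := exists_not hR hw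
    exact tm_sign R (sr_pos i) hi fun q hq u hu h1 =>
      (s Finset.univ).mul_neg (sr_pos i) ⟨i, Finset.mem_univ i, rfl⟩ hq hu h1

theorem dual_C (hg : IsClassFunction Y g) : classInner (ii (UU cs h X) (phC a b ψ η)) (DD cs h ⊥ X g) =
    mn (UU cs h X) fun u => (η u * ∏ i, (1 - ψ i u)) * conj (g u) := by
  have s : ∀ J : Finset I, Sg cs h X {x | ∃ i ∈ J, x = sr i} fun u => ∏ i ∈ J, ψ i u :=
    fun J => sg_prod D.psi J fun _ _ => Iff.rfl
  have h0 : ∀ w, ¬ (0 ≤ rep cs h w⁻¹ (sr a) ∧ 0 ≤ rep cs h w⁻¹ (sr b)) → ∀ q ∈ UU cs h X,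
      (nw R w)⁻¹ * q * nw R w ∈ UU cs h X → phC a b ψ η q = 0 := fun w hw q hq hq' => by
    rcases not_and_or.1 hw with h1 | h1 <;> simp [phC, psi_one R (D.psi _) h1 hq hq']
  rw [inner_DD R hG (fun J u => if a ∈ J ∧ b ∈ J then
      η u * (∏ i ∈ (J.erase a).erase b, ψ i u) * ((1 - ψ a u) * (1 - ψ b u)) else 0)
    (fun x hx y hy => by
      simp only [phC, (sn_of_sg D.eta).cl x hx y hy, fun i => (sn_of_sg (D.psi i)).cl x hx y hy])
    (fun J w hR hw => ?_) (fun J w hw q hq hq' => ?_) (fun J u hu v hv => ?_) hg]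
  · refine mn_congr fun u _ => ?_
    rw [alt_two D.ne fun t => η u * (∏ i ∈ t, ψ i u) * ((1 - ψ a u) * (1 - ψ b u)),
      ← Finset.mul_prod_erase _ _ (Finset.mem_univ a), ← Finset.mul_prod_erase _ _ (show b ∈ Finset.univ.erase a by
        simp [D.ne.symm]), ← alt_one]
    simp only [Finset.mul_sum]
    congr 1
    exact Finset.sum_congr rfl fun t _ => by ring
  · by_cases h1 : 0 ≤ rep cs h w⁻¹ (sr a) ∧ 0 ≤ rep cs h w⁻¹ (sr b)
    · obtain ⟨i, hi⟩ := exists_not hR hw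
      by_cases h2 : i = a ∨ i = b
      · refine tm_sign R D.ab_pos ⟨D.r1.act _, by rw [map_add]; exact add_nonneg h1.1 h1.2, ?_⟩ fun q hq u hu h3 => ?_
        · obtain ⟨-, -, k, hk, h3⟩ := hi
          refine ⟨k, hk, ?_⟩
          rw [map_add, Pi.add_apply]
          rcases h2 with rfl | rfl
          · exact add_pos_of_pos_of_nonneg h3 (h1.2 k)
          · exact add_pos_of_nonneg_of_pos (h1.1 k) h3
        · simp only [phC, D.eta.mul_neg D.ab_pos (Or.inl rfl) hq hu h3,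
            fun i => (D.psi i).mul_pos D.ab_pos (D.ab_ne i) hq hu]
          ring
      · push Not at h2
        refine tm_sign R (sr_pos i) hi fun q hq u hu h3 => ?_
        have h4 := (s ((Finset.univ.erase a).erase b)).mul_neg (sr_pos i) ⟨i, by simp [h2], rfl⟩ hq hu h3
        simp only [phC, D.eta.mul_pos (sr_pos i) (D.sr_ne i) hq hu, h4,
          (D.psi a).mul_pos (sr_pos i) (fun e => h2.1 (sr_inj e)) hq hu,
          (D.psi b).mul_pos (sr_pos i) (fun e => h2.2 (sr_inj e)) hq hu]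
        ring
    · exact mn_zero fun q hq => by rw [h0 w h1 q (dd_U R hR hq).1 (dd_U R hR hq).2, zero_mul]
  · by_cases h1 : a ∈ J ∧ b ∈ J
    · obtain ⟨-, ea, eb⟩ := D.fix hw (Or.inl h1)
      have h2 := (cp_iff R (s ((Finset.univ.erase a).erase b)) (s ((J.erase a).erase b)) w).2
        (fun x _ _ h3 => by
          constructor
          · rintro ⟨j, hj, rfl⟩
            obtain ⟨i, hi, e⟩ := (sim_iff hw h3).1 ⟨j, rfl⟩
            simp only [Finset.mem_erase] at hj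
            refine ⟨i, Finset.mem_erase.2 ⟨?_, Finset.mem_erase.2 ⟨?_, hi⟩⟩, e⟩
            · rintro rfl
              exact hj.1 (sr_inj ((fix_iff eb).2 e))
            · rintro rfl
              exact hj.2.1 (sr_inj ((fix_iff ea).2 e))
          · rintro ⟨i, hi, e⟩
            simp only [Finset.mem_erase] at hi
            obtain ⟨j, rfl⟩ := (sim_iff hw h3).2 ⟨i, hi.2.2, e⟩
            refine ⟨j, Finset.mem_erase.2 ⟨?_, Finset.mem_erase.2 ⟨?_, Finset.mem_univ j⟩⟩, rfl⟩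
            · rintro rfl
              exact hi.1 (sr_inj (e.symm.trans eb))
            · rintro rfl
              exact hi.2.1 (sr_inj (e.symm.trans ea))) q hq hq'
      simp only [if_pos h1] at h2 ⊢
      rw [phC, h2, (cp_iff R D.eta D.eta w).2 (fun x _ _ _ => or_congr (fix_iff (by rw [map_add, ea, eb]))
          (fix_iff (by rw [map_add, map_add, ea, eb]))) q hq hq',
        (cp_iff R (D.psi a) (D.psi a) w).2 (fun x _ _ _ => fix_iff ea) q hq hq',
        (cp_iff R (D.psi b) (D.psi b) w).2 (fun x _ _ _ => fix_iff eb) q hq hq']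
    · simp only [if_neg h1]
      exact h0 w (fun h2 => h1 (D.fix hw (Or.inr h2)).1) q hq hq'
  · by_cases h1 : a ∈ J ∧ b ∈ J
    · have h2 : ∀ i ∈ J, ψ i (u * v) = ψ i u := fun i hi => (D.psi i).mul_V (by
        rintro _ rfl
        exact sr_not_NotJ hi) hu hv
      simp only [if_pos h1]
      rw [h2 a h1.1, h2 b h1.2, Finset.prod_congr rfl fun i hi =>
        h2 i (Finset.mem_of_mem_erase (Finset.mem_of_mem_erase hi)), D.eta.mul_V ?_ hu hv]
      rintro x hx ⟨-, -, k, hk, h3⟩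
      have h4 : (sr a : I → ℤ) k = 0 := Tits.Roots.sr_ne (by rintro rfl; exact hk h1.1)
      have h5 : (sr b : I → ℤ) k = 0 := Tits.Roots.sr_ne (by rintro rfl; exact hk h1.2)
      rcases hx with rfl | rfl <;> simp [h4, h5] at h3
    · simp only [if_neg h1]

omit hG in
theorem mn_f (σ : ℂ) : mn (UU cs h X) (fun u => (1 + σ * η u) * ∏ i, (1 - ψ i u)) = 1 := by
  have h1 : ∀ s : Finset I, mn (UU cs h X) (fun u => ∏ i ∈ s, (1 - ψ i u)) = 1 := fun s => by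
    induction s using Finset.induction_on with
    | empty => simpa using mn_const (UU cs h X) 1
    | insert j s hj ih =>
      obtain ⟨t, ht, h2⟩ := exists_ne R (isRoot_sr cs h j)
      rw [mn_congr (F' := fun u => ∏ i ∈ s, (1 - ψ i u) + -(ψ j u * ∏ i ∈ s, (1 - ψ i u))) fun u _ => by
        rw [Finset.prod_insert hj]; ring, mn_add, ih, mn_sign (X_le_UU (isRoot_sr cs h j) (sr_nonneg j) ht) fun u hu => by
          rw [(D.psi j).mul_neg (sr_pos j) rfl hu ht h2, Finset.prod_congr rfl fun i hi => by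
            rw [(D.psi i).mul_pos (sr_pos j) (fun e => hj (sr_inj e ▸ hi)) hu ht], neg_mul], add_zero]
  obtain ⟨t, ht, h2⟩ := exists_ne R D.r1
  rw [mn_congr (F' := fun u => ∏ i, (1 - ψ i u) + σ * η u * ∏ i, (1 - ψ i u)) fun u _ => by ring, mn_add, h1,
    mn_sign (X_le_UU D.r1 D.ab_pos.2 ht) fun u hu => by
      simp only [D.eta.mul_neg D.ab_pos (Or.inl rfl) hu ht h2, fun i => (D.psi i).mul_pos D.ab_pos (D.ab_ne i) hu ht]
      ring, add_zero]

omit hG in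
theorem coef_odd {σ : ℂ} (hσ : σ = 1 ∨ σ = -1) [Fintype (UU cs h X)] {θ : UU cs h X → ℂ} (hθ : IsIrrCharacter _ θ)
    (ho : Odd (charDegree θ)) : ∀ m, m = classInner (fun u : UU cs h X => (1 + σ * η u) * ∏ i, (1 - ψ i u)) θ →
      m = 1 ∨ m = -1 := by
  obtain ⟨k, hk⟩ := IsPGroup.iff_card.1 R.isPGroup_Upos
  have h1 := H142.McKayCount.charDegree_dvd_card ⟨θ, hθ⟩
  rw [hk] at h1
  have h2 : charDegree θ = 1 := Nat.eq_one_of_dvd_coprimes (Nat.Coprime.pow_left k ((Nat.coprime_two_left).2 ho)) h1 dvd_rfl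
  obtain ⟨l, rfl⟩ := Linear.exists_hom_of_isIrrCharacter hθ (by rw [irr_one_eq_charDegree hθ, h2, Nat.cast_one])
  obtain ⟨J, e, he⟩ := D.all l
  rintro _ rfl
  rw [funext he, inner_res (fun u => (1 + σ * η u) * ∏ i, (1 - ψ i u)) fun u => η u ^ e * ∏ i ∈ J, ψ i u,
    mn_congr (F' := fun u => σ ^ e * (-1) ^ J.card * ((1 + σ * η u) * ∏ i, (1 - ψ i u))) fun u hu => ?_, mn_mul,
    mn_f R D, mul_one]
  · rcases hσ with rfl | rfl
    · simpa using neg_one_pow_eq_or ℂ J.card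
    · rw [← pow_add]
      exact neg_one_pow_eq_or ℂ _
  · have h3 : (1 + σ * η u) * η u ^ e = σ ^ e * (1 + σ * η u) := by
      rcases hσ with rfl | rfl <;> rcases (sn_of_sg D.eta).sq u hu with h3 | h3 <;> simp [h3, mul_comm]
    have h4 : (∏ i, (1 - ψ i u)) * ∏ i ∈ J, ψ i u = (-1) ^ J.card * ∏ i, (1 - ψ i u) := by
      rw [← Finset.prod_mul_prod_compl J, mul_right_comm, ← Finset.prod_mul_distrib, ← mul_assoc, ← Finset.prod_neg]
      congr 1
      refine Finset.prod_congr rfl fun i _ => ?_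
      rcases (sn_of_sg (D.psi i)).sq u hu with h3 | h3 <;> simp [h3]
    rw [map_mul, map_pow, map_prod, (sn_of_sg D.eta).star hu, Finset.prod_congr rfl fun i _ =>
      (sn_of_sg (D.psi i)).star hu, mul_mul_mul_comm, h3, h4]
    ring

omit hG R in
theorem coef_even (σ : ℂ) [Fintype (UU cs h X)] {θ : UU cs h X → ℂ} (hθ : IsIrrCharacter _ θ)
    (ho : ¬ Odd (charDegree θ)) : classInner (fun u : UU cs h X => (1 + σ * η u) * ∏ i, (1 - ψ i u)) θ = 0 := by
  have h1 : ∀ l, Sn (UU cs h X) l → classInner (fun u : UU cs h X => l u) θ = 0 := fun l s => by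
    rw [show (fun u : UU cs h X => l u) = fun u => (s.hom u : ℂ) from rfl,
      classInner_irr (Linear.isIrrCharacter_hom s.hom) hθ, if_neg]
    rintro rfl
    have h2 := irr_one_eq_charDegree hθ
    rw [map_one, Units.val_one, eq_comm, Nat.cast_eq_one] at h2
    exact ho (h2 ▸ odd_one)
  have s : ∀ J : Finset I, Sn (UU cs h X) fun u => ∏ i ∈ J, ψ i u :=
    fun J => sn_of_sg (sg_prod (S := {x | ∃ i ∈ J, x = sr i}) D.psi J fun _ _ => Iff.rfl)
  rw [show (fun u : UU cs h X => (1 + σ * η u) * ∏ i, (1 - ψ i u)) = ∑ J : Finset I, ((-1 : ℂ) ^ J.card) •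
    ((fun u : UU cs h X => ∏ i ∈ J, ψ i u) + σ • fun u : UU cs h X => η u * ∏ i ∈ J, ψ i u) by
      funext u
      simp only [← alt_one, Finset.powerset_univ, Finset.sum_apply, Pi.smul_apply, Pi.add_apply, smul_eq_mul,
        Finset.mul_sum]
      exact Finset.sum_congr rfl fun _ _ => by ring, classInner_sum_left]
  refine Finset.sum_eq_zero fun J _ => ?_
  rw [classInner_smul_left, classInner_add_left, classInner_smul_left, h1 _ (s J), h1 _ ((sn_of_sg D.eta).times (s J))]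
  simp

/-- **the count** -/
theorem k0_eq (hM : MF cs h X a b ψ η) : T.k0 Y = T.k0 (UU cs h X) := by
  obtain ⟨σ, hσ, hM⟩ := hM
  have := Fintype.ofFinite (UU cs h X)
  let f : Y → ℂ := fun u => (1 + σ * η u) * ∏ i, (1 - ψ i u)
  have hf : Cl (UU cs h X) f := fun x hx y hy => by
    simp only [f, (sn_of_sg D.eta).cl x hx y hy, fun i => (sn_of_sg (D.psi i)).cl x hx y hy]
  have h1 : ∀ g, IsClassFunction Y g → classInner (ii (UU cs h X) f) g =
      classInner (ii (UU cs h X) fun u => phB ψ u + σ * phC a b ψ η u) (DD cs h ⊥ X g) := fun g hg => by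
    have h2 := dual_B R hG D hg
    have h3 := dual_C R hG D hg
    rw [inner_ii _ _ (cls_DD _ _ _ _ g)] at h2 h3 ⊢
    simp only [add_mul, mul_assoc σ]
    rw [mn_add, mn_mul, h2, h3, ← mn_mul, ← mn_add, inner_ii _ _ hg]
    exact mn_congr fun u _ => by simp only [f]; ring
  refine k0_of (UU cs h X) hf.cls (fun θ hθ => ⟨fun ho => coef_odd R D hσ hθ ho _ rfl, coef_even D σ hθ⟩)
    (fun χ hχ m hm => ?_) ?_
  · rw [hm, show indFun _ _ = ii (UU cs h X) f from rfl, h1 χ (isIrr_isClassFunction hχ)]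
    rcases DD_irr R hG hχ with h2 | h2
    · exact hM _ h2 _ rfl
    · have h3 := hM _ h2 _ rfl
      rw [← neg_one_smul ℂ, classInner_smul_right, map_neg, map_one, neg_one_mul, neg_eq_zero, neg_eq_iff_eq_neg,
        neg_inj] at h3
      exact h3.imp_right Or.symm
  · rw [show indFun _ _ = ii (UU cs h X) f from rfl, inner_ii_ii hf hf (nw R) (dis R) (cov R hG),
      Finset.sum_eq_single 1, nw_one, inner_res, show dd (UU cs h X) (UU cs h X) 1 = UU cs h X from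
        Subgroup.ext fun q => by simp [mem_dd]]
    · simp
    · intro w _ hw
      obtain ⟨i, hi⟩ : ∃ i, ¬ 0 ≤ rep cs h w⁻¹ (sr i) := by
        by_contra h2
        push Not at h2
        exact hw (inv_eq_one.1 (H53.HC.eq_one_of_nonneg h2))
      refine mn_zero fun q hq => ?_
      simp only [f]
      rw [Finset.prod_eq_zero (Finset.mem_univ i) (by
        rw [psi_one R (D.psi i) hi (mem_dd.1 hq).1 (mem_dd.1 hq).2, sub_self]), mul_zero, zero_mul]
    · simp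

end Cfsg.Agent.MK.Sp2
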