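import Cfsg.Agent.MK.Sp2.Fin
import Cfsg.Agent.MK.Sp2.Main

/-!
# MK: the row in characteristic two (helper43)
-/

set_option autoImplicit false

namespace Cfsg.Agent.MK.Sp2

open Cfsg

theorem k0_box : K0 := fun R hG D hM => k0_eq R hG D hM

/-- **the row in characteristic two** -/
theorem row_two : Row fun S _ => IsLieTypeChar 2 S := row_two_of k0_box

end Cfsg.Agent.MK.Sp2
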