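import Cfsg.Agent.MK.Sp2.Defs
import Cfsg.Agent.H45.GG.Series
import Cfsg.Agent.H45.GG.Mackey
import Cfsg.Agent.CharactersDeep.Tifn

/-!
# MK, `Sp_{2n}(2)`: mean values, Mackey terms and the count (helper82)

* `mn H F` : the mean of `F` on `H`;  `mn_prod` : `H = A B`;  `mn_cj` : conjugation;
* `ii H φ` : the induced function; `inner_ii`, `inner_ii_ii` (Mackey);
* `av V g` : the mean over the cosets of `V`;  `av_nat`;
* `k0_of` : the count;  `mf_of` : multiplicities of `Γ + X₁ - X₂`.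
-/

set_option autoImplicit false
set_option linter.unusedSectionVars false

open scoped ComplexConjugate

namespace Cfsg.Agent.MK.Sp2

open Cfsg Cfsg.Agent.Characters Cfsg.Agent.Characters.Core Cfsg.Agent.MK.T
open Cfsg.Agent.OddOrderCharacters.Clifford (classInner_indFun isClassFunction_indFun ext_apply_mem ext_apply_not_mem)
open Cfsg.Agent.H45.GG (tw tw_def ds mem_ds DK classInner_ind_eq_sum apply_mul_ker)
open Cfsg.Agent.Blocks.Basic (irr_one_eq_charDegree)

variable {G : Type} [Group G] [Finite G]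

/-- the mean value -/
noncomputable def mn (H : Subgroup G) (F : G → ℂ) : ℂ := (Nat.card H : ℂ)⁻¹ * ∑ᶠ x : H, F x

variable {H K A B V P : Subgroup G} {F F' : G → ℂ}

theorem mn_eq [Fintype H] (F : G → ℂ) : mn H F = (Nat.card H : ℂ)⁻¹ * ∑ x : H, F x := by
  rw [mn, finsum_eq_sum_of_fintype]

theorem mn_congr (e : ∀ x ∈ H, F x = F' x) : mn H F = mn H F' := by
  unfold mn
  rw [finsum_congr fun x : H => e x x.2]

theorem mn_const (H : Subgroup G) (c : ℂ) : mn H (fun _ => c) = c := by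
  have := Fintype.ofFinite H
  rw [mn_eq, Finset.sum_const, Finset.card_univ, nsmul_eq_mul, ← Nat.card_eq_fintype_card, ← mul_assoc,
    inv_mul_cancel₀ card_ne_zero_complex, one_mul]

theorem mn_zero (e : ∀ x ∈ H, F x = 0) : mn H F = 0 := (mn_congr e).trans (mn_const H 0)

theorem mn_add (H : Subgroup G) (F F' : G → ℂ) : mn H (fun x => F x + F' x) = mn H F + mn H F' := by
  have := Fintype.ofFinite H
  rw [mn_eq, mn_eq, mn_eq, Finset.sum_add_distrib, mul_add]

theorem mn_mul (H : Subgroup G) (c : ℂ) (F : G → ℂ) : mn H (fun x => c * F x) = c * mn H F := by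
  have := Fintype.ofFinite H
  rw [mn_eq, mn_eq, ← Finset.mul_sum, mul_left_comm]

theorem mn_mul' (H : Subgroup G) (c : ℂ) (F : G → ℂ) : mn H (fun x => F x * c) = mn H F * c := by
  rw [mul_comm, ← mn_mul]
  exact mn_congr fun _ _ => mul_comm _ _

theorem mn_sum (H : Subgroup G) {ι : Type*} (s : Finset ι) (F : ι → G → ℂ) :
    mn H (fun x => ∑ i ∈ s, F i x) = ∑ i ∈ s, mn H (F i) := by
  have := Fintype.ofFinite H
  simp only [mn_eq]
  rw [Finset.sum_comm, Finset.mul_sum]

theorem mn_star (H : Subgroup G) (F : G → ℂ) : mn H (fun x => conj (F x)) = conj (mn H F) := by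
  have := Fintype.ofFinite H
  rw [mn_eq, mn_eq, map_mul, map_sum, map_inv₀, map_natCast]

theorem mn_comm (H K : Subgroup G) (F : G → G → ℂ) :
    mn H (fun x => mn K (F x)) = mn K fun y => mn H fun x => F x y := by
  have := Fintype.ofFinite H
  have := Fintype.ofFinite K
  simp only [mn_eq, Finset.mul_sum]
  rw [Finset.sum_comm]
  exact Finset.sum_congr rfl fun _ _ => Finset.sum_congr rfl fun _ _ => mul_left_comm _ _ _

theorem mn_equiv (e : H ≃ K) (h : ∀ x : H, F x = F' (e x)) : mn H F = mn K F' := by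
  have := Fintype.ofFinite H
  have := Fintype.ofFinite K
  rw [mn_eq, mn_eq, Nat.card_congr e, Fintype.sum_equiv e _ (fun y : K => F' y) h]

theorem mn_left {a : G} (ha : a ∈ H) (F : G → ℂ) : mn H (fun x => F (a * x)) = mn H F :=
  mn_equiv (Equiv.mulLeft ⟨a, ha⟩) fun _ => rfl

theorem mn_right {a : G} (ha : a ∈ H) (F : G → ℂ) : mn H (fun x => F (x * a)) = mn H F :=
  mn_equiv (Equiv.mulRight ⟨a, ha⟩) fun _ => rfl

theorem mn_inv (H : Subgroup G) (F : G → ℂ) : mn H (fun x => F x⁻¹) = mn H F :=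
  mn_equiv (Equiv.inv H) fun _ => rfl

theorem mn_cj {g : G} (h : ∀ x, x ∈ H ↔ g⁻¹ * x * g ∈ K) (F : G → ℂ) : mn H (fun x => F (g⁻¹ * x * g)) = mn K F :=
  mn_equiv ⟨fun x => ⟨g⁻¹ * x * g, (h x).1 x.2⟩, fun y => ⟨g * y * g⁻¹, (h _).2 (by simp [mul_assoc])⟩,
    fun x => Subtype.ext (by simp [mul_assoc]), fun y => Subtype.ext (by simp [mul_assoc])⟩ fun _ => rfl

theorem mn_sub (hB : B ≤ H) (F : G → ℂ) : mn H F = mn H fun x => mn B fun b => F (x * b) := by
  rw [mn_comm, mn_congr (H := B) (F' := fun _ => mn H F) fun b hb => mn_right (hB hb) F, mn_const]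

/-- `H = A B` -/
theorem mn_prod (hA : A ≤ H) (hB : B ≤ H) (h : ∀ x ∈ H, ∃ a ∈ A, ∃ b ∈ B, x = a * b) (F : G → ℂ) :
    mn H F = mn A fun a => mn B fun b => F (a * b) := by
  rw [mn_sub hB]
  generalize hf : (fun x => mn B fun b => F (x * b)) = f
  have h1 : ∀ x, ∀ b ∈ B, f (x * b) = f x := fun x b hb => by
    rw [← hf]
    simp only [mul_assoc]
    exact mn_left hb fun c => F (x * c)
  have h2 : mn H f = mn A fun a => mn H fun x => f (a * x) := by
    rw [mn_congr (H := A) (F' := fun _ => mn H f) fun a ha => mn_left (hA ha) f, mn_const]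
  rw [h2, mn_comm, ← mn_const H (mn A f)]
  refine mn_congr fun x hx => ?_
  obtain ⟨a, ha, b, hb, rfl⟩ := h x hx
  rw [← mn_right ha f]
  exact mn_congr fun c _ => by rw [← mul_assoc, h1 _ b hb]

/-- a sign change -/
theorem mn_sign {a : G} (ha : a ∈ H) (h : ∀ x ∈ H, F (x * a) = -F x) : mn H F = 0 := by
  have h1 := mn_right ha F
  rw [mn_congr (F' := fun x => -1 * F x) fun x hx => by rw [h x hx, neg_one_mul], mn_mul] at h1
  linear_combination -(1 / 2 : ℂ) * h1

theorem inner_res [Fintype H] (φ ψ : G → ℂ) :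
    classInner (fun x : H => φ x) (fun x : H => ψ x) = mn H fun x => φ x * conj (ψ x) := by
  rw [mn_eq]
  rfl

/-- invariance under conjugation by the elements of `H` -/
def Cl (H : Subgroup G) (φ : G → ℂ) : Prop := ∀ x ∈ H, ∀ y ∈ H, φ (y * x * y⁻¹) = φ x

theorem Cl.cls {φ : G → ℂ} (h : Cl H φ) : IsClassFunction H fun x : H => φ x := fun x y => h x x.2 y y.2

/-- `H ∩ x K x⁻¹` -/
def dd (H K : Subgroup G) (x : G) : Subgroup G := H ⊓ K.comap (MulAut.conj x⁻¹).toMonoidHom

theorem mem_dd {x q : G} : q ∈ dd H K x ↔ q ∈ H ∧ x⁻¹ * q * x ∈ K := by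
  simp [dd]

/-- the mean over the cosets of `V` -/
noncomputable def av (V : Subgroup G) (g : G → ℂ) (x : G) : ℂ := mn V fun v => g (x * v)

theorem av_mul {g : G → ℂ} (x : G) {v : G} (hv : v ∈ V) : av V g (x * v) = av V g x := by
  unfold av
  simp only [mul_assoc]
  exact mn_left hv fun c => g (x * c)

theorem av_cj {g : G → ℂ} (hg : IsClassFunction G g) {V' : Subgroup G} {y : G} (h : ∀ v, v ∈ V ↔ y⁻¹ * v * y ∈ V')
    (x : G) : av V' g (y⁻¹ * x * y) = av V g x := by
  unfold av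
  rw [← mn_cj h]
  refine mn_congr fun v _ => ?_
  rw [← hg (x * v) y⁻¹]
  congr 1
  group

theorem cl_av {g : G → ℂ} (hg : IsClassFunction G g) (hP : P ≤ Subgroup.normalizer (V : Set G)) : Cl P (av V g) :=
  fun x _ y hy => by
    have h1 := av_cj hg (V := V) (V' := V) (y := y⁻¹) (fun v => by
      rw [inv_inv]; exact Subgroup.mem_normalizer_iff.1 (hP hy) v) x
    rwa [inv_inv] at h1

theorem mn_av (hV : V ≤ P) (f g : G → ℂ) :
    (mn P fun x => av V f x * conj (g x)) = mn P fun x => f x * conj (av V g x) := by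
  unfold av
  simp only [← mn_star, ← mn_mul, ← mn_mul']
  rw [mn_comm, mn_comm P, ← mn_inv V]
  refine mn_congr fun v hv => ?_
  rw [← mn_right (hV hv)]
  exact mn_congr fun x _ => by rw [mul_inv_cancel_right]

/-- a function which is constant on the cosets of `V` -/
theorem mn_av' (hV : V ≤ P) {f : G → ℂ} (hf : ∀ x ∈ P, ∀ v ∈ V, f (x * v) = f x) (g : G → ℂ) :
    (mn P fun x => f x * conj (av V g x)) = mn P fun x => f x * conj (g x) := by
  rw [← mn_av hV]
  refine mn_congr fun x hx => ?_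
  rw [av, mn_congr (F' := fun _ => f x) fun v hv => hf x hx v hv, mn_const]

theorem av_nat (hV : V ≤ P) (hP : P ≤ Subgroup.normalizer (V : Set G)) {χ ψ : G → ℂ} (hχ : IsCharacter G χ)
    (hψ : IsCharacter G ψ) : ∃ k : ℕ, (mn P fun x => av V χ x * conj (ψ x)) = k := by
  classical
  have := Fintype.ofFinite P
  have : Finite (IrrCharacter P) := finite_irr
  have := Fintype.ofFinite (IrrCharacter P)
  have hn : (V.subgroupOf P).Normal := (Subgroup.normal_subgroupOf_iff_le_normalizer hV).2 hP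
  have := Fintype.ofFinite (V.subgroupOf P)
  have := Fintype.ofFinite V
  obtain ⟨m, hm⟩ := exists_nat_comb (isCharacter_comp P.subtype hχ)
  let φ : P → ℂ := ∑ η : IrrCharacter P, (if ∀ k ∈ V.subgroupOf P, (η : P → ℂ) k = (η : P → ℂ) 1 then m η else 0) •
    (η : P → ℂ)
  have h1 : (fun x : P => av V χ x) = φ := by
    funext x
    have h2 : ∀ v : V, χ (x * v) = ∑ η : IrrCharacter P, m η * (η : P → ℂ) (x * ⟨v, hV v.2⟩) := fun v => by
      have h3 := congrFun hm (x * ⟨v, hV v.2⟩)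
      rw [Finset.sum_apply, Finset.sum_congr rfl fun θ _ => by rw [Pi.smul_apply, nsmul_eq_mul]] at h3
      exact h3
    rw [av, mn_eq, Finset.sum_congr rfl fun v _ => h2 v, Finset.sum_comm, Finset.mul_sum]
    simp only [φ, Finset.sum_apply]
    refine Finset.sum_congr rfl fun η _ => ?_
    rw [Pi.smul_apply, nsmul_eq_mul, ← Finset.mul_sum, Fintype.sum_equiv (Subgroup.subgroupOfEquivOfLe hV).symm.toEquiv
      (fun v : V => (η : P → ℂ) (x * ⟨v, hV v.2⟩)) (fun k : V.subgroupOf P => (η : P → ℂ) (x * k)) fun v => rfl]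
    split_ifs with h3
    · rw [Finset.sum_congr rfl fun (k : V.subgroupOf P) _ => apply_mul_ker (isIrr_isCharacter η.2) (h3 k k.2) x, Finset.sum_const,
        Finset.card_univ, ← Nat.card_eq_fintype_card, Nat.card_congr (Subgroup.subgroupOfEquivOfLe hV).toEquiv,
        nsmul_eq_mul, mul_left_comm, ← mul_assoc _ _ ((η : P → ℂ) x), inv_mul_cancel₀ card_ne_zero_complex, one_mul]
    · push Not at h3
      rw [CharactersDeep.Tifn.sum_mul_eq_zero _ η.2 h3, mul_zero, mul_zero, Nat.cast_zero, zero_mul]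
  rw [← inner_res, h1]
  exact classInner_isNat (isCharacter_iff.2 ⟨_, rfl⟩) (isCharacter_comp P.subtype hψ)

section ind

variable [Fintype G]

/-- the induced function -/
noncomputable def ii (H : Subgroup G) (φ : G → ℂ) : G → ℂ := indFun H fun x : H => φ x

theorem cls_ii (H : Subgroup G) (φ : G → ℂ) : IsClassFunction G (ii H φ) := isClassFunction_indFun _ _

theorem inner_ii (H : Subgroup G) (φ : G → ℂ) {χ : G → ℂ} (hχ : IsClassFunction G χ) :
    classInner (ii H φ) χ = mn H fun x => φ x * conj (χ x) := by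
  have := Fintype.ofFinite H
  rw [ii, classInner_indFun _ _ _ hχ, inner_res]

/-- **Mackey's formula** -/
theorem inner_ii_ii {φ β : G → ℂ} (hφ : Cl H φ) (hβ : Cl K β) {ι : Type*} [Fintype ι] (r : ι → G)
    (hdis : ∀ i j, ∀ a ∈ H, ∀ b ∈ K, r j = a * r i * b → i = j) (hcov : ∀ x, ∃ i, ∃ a ∈ H, ∃ b ∈ K, x = a * r i * b) :
    classInner (ii H φ) (ii K β) = ∑ i, mn (dd H K (r i)) fun q => φ q * conj (β ((r i)⁻¹ * q * r i)) := by
  classical
  have := Fintype.ofFinite H
  have := Fintype.ofFinite K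
  have := fun i => Fintype.ofFinite (ds H K (r i))
  rw [ii, ii, classInner_ind_eq_sum H K hφ.cls hβ.cls r (fun i j ⟨a, ha, b, hb, e⟩ => hdis i j a ha b hb e)
    fun x hx => by
      obtain ⟨i, hi⟩ := hcov x
      exact absurd hi (hx i)]
  refine Finset.sum_congr rfl fun i _ => ?_
  have := Fintype.ofFinite (dd H K (r i))
  let e : ds H K (r i) ≃ dd H K (r i) :=
    ⟨fun t => ⟨t.1, mem_dd.2 ⟨t.1.2, (mem_ds _ _ _ _).1 t.2⟩⟩,
      fun q => ⟨⟨q, (mem_dd.1 q.2).1⟩, (mem_ds _ _ _ _).2 (mem_dd.1 q.2).2⟩, fun _ => rfl, fun _ => rfl⟩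
  rw [mn_eq, ← Nat.card_congr e, Nat.card_eq_fintype_card, tw_def]
  congr 1
  rw [← Fintype.sum_equiv e (fun t => φ (t : H) * conj (β ((r i)⁻¹ * (t : H) * r i))) _ fun _ => rfl,
    ← Finset.sum_subtype (Finset.univ.filter (· ∈ ds H K (r i))) (p := (· ∈ ds H K (r i))) (by simp)
      (fun t : H => φ t * conj (β ((r i)⁻¹ * t * r i))), Finset.sum_filter]
  refine Finset.sum_congr rfl fun t _ => ?_
  split_ifs with h1
  · rw [ext_apply_mem _ _ _ ((mem_ds _ _ _ _).1 h1)]
  · rw [ext_apply_not_mem _ _ _ (mt (mem_ds _ _ _ _).2 h1), map_zero, mul_zero]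

theorem cnt {f : G → ℂ} (hf : IsClassFunction G f) (h : ∀ χ, IsIrrCharacter G χ →
    (Odd (charDegree χ) → classInner f χ = 1 ∨ classInner f χ = -1) ∧ (¬ Odd (charDegree χ) → classInner f χ = 0)) :
    classInner f f = k0 G := by
  classical
  have : Finite (IrrCharacter G) := finite_irr
  have := Fintype.ofFinite (IrrCharacter G)
  have e : {χ : G → ℂ // OI G χ} ≃ {χ : IrrCharacter G // Odd (charDegree (χ : G → ℂ))} :=
    ⟨fun χ => ⟨⟨χ.1, χ.2.1⟩, χ.2.2⟩, fun χ => ⟨χ.1.1, χ.1.2, χ.2⟩, fun _ => rfl, fun _ => rfl⟩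
  rw [classInner_eq_sum hf hf, k0, Nat.card_congr e, Nat.card_eq_fintype_card, Fintype.card_subtype, Finset.card_filter,
    Nat.cast_sum]
  refine Finset.sum_congr rfl fun χ _ => ?_
  split_ifs with h1
  · rcases (h χ χ.2).1 h1 with h2 | h2 <;> simp [h2]
  · simp [(h χ χ.2).2 h1]

/-- **the count** -/
theorem k0_of (U : Subgroup G) [Fintype U] {f : U → ℂ} (hf : IsClassFunction U f) (h : ∀ θ, IsIrrCharacter U θ →
    (Odd (charDegree θ) → classInner f θ = 1 ∨ classInner f θ = -1) ∧ (¬ Odd (charDegree θ) → classInner f θ = 0))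
    (h1 : ∀ χ, IsIrrCharacter G χ → ∀ m, m = classInner (indFun U f) χ → m = 0 ∨ m = 1 ∨ m = -1)
    (h2 : classInner (indFun U f) (indFun U f) = classInner f f) : k0 G = k0 U := by
  classical
  have : Finite (IrrCharacter U) := finite_irr
  have := Fintype.ofFinite (IrrCharacter U)
  have hz : ∀ θ : IrrCharacter U, ∃ z : ℤ, classInner f θ = z ∧ (z : ZMod 2) = charDegree (θ : U → ℂ) := fun θ => by
    by_cases h3 : Odd (charDegree (θ : U → ℂ))
    · rcases (h θ θ.2).1 h3 with h4 | h4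
      · exact ⟨1, by simp [h4], by rw [(ZMod.natCast_eq_one_iff_odd).2 h3]; rfl⟩
      · exact ⟨-1, by simp [h4], by rw [(ZMod.natCast_eq_one_iff_odd).2 h3]; rfl⟩
    · exact ⟨0, by simp [(h θ θ.2).2 h3], by
        rw [(ZMod.natCast_eq_zero_iff_even).2 (Nat.not_odd_iff_even.1 h3)]; rfl⟩
  choose z hz1 hz2 using hz
  have key : ∀ χ, IsIrrCharacter G χ → ∃ c : ℤ, classInner (indFun U f) χ = c ∧ (c : ZMod 2) = charDegree χ := by
    intro χ hχ
    obtain ⟨m, hm⟩ := exists_nat_comb (isCharacter_comp U.subtype (isIrr_isCharacter hχ))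
    refine ⟨∑ θ, m θ * z θ, ?_, ?_⟩
    · rw [classInner_indFun _ _ _ (isIrr_isClassFunction hχ), show (fun u : U => χ u) = _ from hm, classInner_sum_right]
      push_cast
      refine Finset.sum_congr rfl fun θ _ => ?_
      rw [← Nat.cast_smul_eq_nsmul ℂ, classInner_smul_right, hz1, map_natCast]
    · have h3 := congrFun hm 1
      rw [Finset.sum_apply, Function.comp_apply, map_one, irr_one_eq_charDegree hχ, Finset.sum_congr rfl fun θ _ => by
        rw [Pi.smul_apply, nsmul_eq_mul, irr_one_eq_charDegree θ.2]] at h3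
      have h4 : charDegree χ = ∑ θ : IrrCharacter U, m θ * charDegree (θ : U → ℂ) := by exact_mod_cast h3
      rw [h4]
      push_cast
      exact Finset.sum_congr rfl fun θ _ => by rw [hz2]
  have h3 := cnt (isClassFunction_indFun U f) fun χ hχ => by
    obtain ⟨c, hc, hc2⟩ := key χ hχ
    constructor
    · intro h4
      refine (h1 χ hχ _ rfl).resolve_left fun h5 => ?_
      rw [hc, Int.cast_eq_zero] at h5
      rw [h5, (ZMod.natCast_eq_one_iff_odd).2 h4] at hc2
      exact absurd hc2 (by decide)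
    · intro h4
      rw [(ZMod.natCast_eq_zero_iff_even).2 (Nat.not_odd_iff_even.1 h4)] at hc2
      rcases h1 χ hχ _ rfl with h5 | h5 | h5
      · exact h5
      · obtain rfl : c = 1 := by rw [hc] at h5; exact_mod_cast h5
        exact absurd hc2 (by decide)
      · obtain rfl : c = -1 := by rw [hc] at h5; exact_mod_cast h5
        exact absurd hc2 (by decide)
  rw [h2, cnt hf h] at h3
  exact_mod_cast h3.symm

/-- the multiplicities in `Γ + X₁ - X₂` -/
theorem mf_of {Γ X₁ X₂ : G → ℂ} (hΓ : IsCharacter G Γ) (hX : IsClassFunction G X₂)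
    (h1 : ∀ χ, IsIrrCharacter G χ → classInner X₁ χ = 0 ∨ classInner X₁ χ = 1)
    (h2 : ∀ χ, IsIrrCharacter G χ → classInner X₂ χ = 0 ∨ classInner X₂ χ = 1)
    (h3 : classInner Γ X₂ = classInner Γ Γ) {χ : G → ℂ} (hχ : IsIrrCharacter G χ) {m : ℂ}
    (hm : m = classInner (Γ + X₁ - X₂) χ) : m = 0 ∨ m = 1 ∨ m = -1 := by
  classical
  have : Finite (IrrCharacter G) := finite_irr
  have := Fintype.ofFinite (IrrCharacter G)
  choose a ha using fun θ : IrrCharacter G => classInner_isNat hΓ (isIrr_isCharacter θ.2)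
  have hy : ∀ θ : IrrCharacter G, ∃ y : ℕ, y ≤ 1 ∧ classInner X₂ θ = y := fun θ => by
    rcases h2 θ θ.2 with h4 | h4
    · exact ⟨0, zero_le_one, by simp [h4]⟩
    · exact ⟨1, le_rfl, by simp [h4]⟩
  choose y hy1 hy using hy
  have hc := isCharacter_isClassFunction hΓ
  rw [classInner_eq_sum hc hX, classInner_eq_sum hc hc] at h3
  simp only [ha, hy, map_natCast] at h3
  have h4 : ∑ θ, a θ * y θ = ∑ θ, a θ * a θ := by exact_mod_cast h3
  have h5 := (Finset.sum_eq_sum_iff_of_le fun θ _ => (show a θ * y θ ≤ a θ * a θ by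
    have := hy1 θ
    rcases Nat.eq_zero_or_pos (a θ) with h | h
    · simp [h]
    · exact Nat.mul_le_mul_left _ (by omega))).1 h4 ⟨χ, hχ⟩ (Finset.mem_univ _)
  have h6 := ha ⟨χ, hχ⟩
  have h7 := hy ⟨χ, hχ⟩
  have h8 := hy1 ⟨χ, hχ⟩
  rw [hm, classInner_sub_left, classInner_add_left, show classInner Γ χ = _ from h6, show classInner X₂ χ = _ from h7]
  generalize a ⟨χ, hχ⟩ = s at h5
  generalize y ⟨χ, hχ⟩ = t at h5 h8
  have h9 : s = t ∨ (s = 0 ∧ t = 1) := by
    rcases Nat.eq_zero_or_pos s with h | h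
    · omega
    · exact Or.inl (Nat.eq_of_mul_eq_mul_left h h5).symm
  rcases h9 with rfl | ⟨rfl, rfl⟩ <;> rcases h1 χ hχ with h | h <;> simp [h]

end ind

end Cfsg.Agent.MK.Sp2
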