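import Mathlib

/-!
# MK, `Sp_{2n}(2)`: the combinatorics of the compatible signed permutations (helper43)

The positions `0, …, 2 k + 3` are the weights of the natural module in decreasing order, a pair `p < q` is a positive
root.  `f` is the negative of a signed permutation: the root `(p, q)` stays positive iff `f q < f p`.

* `SP k y c e p q` : the support of a linear character;  `Bj`, `Cm` : compatible bijections;
* `shape` : the form of the compatible bijections;  `inv_one`, `inv_two`, `cross` : the consequences.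
-/

set_option autoImplicit false
set_option maxHeartbeats 400000
set_option linter.unusedVariables false

namespace Cfsg.Agent.MK.Sp2.B

/-- the support: `y` the two roots `a + b`, `a + 2 b`; `c` the last short node; `e` the long node -/
def SP (k y c e p q : ℕ) : Prop :=
  (q = p + 1 ∧ (p < k ∨ k + 3 ≤ p)) ∨ (y = 1 ∧ ((p = k ∧ (q = k + 2 ∨ q = k + 3)) ∨ (p = k + 1 ∧ q = k + 3))) ∨
    (c = 1 ∧ q = p + 1 ∧ (p = k ∨ p = k + 2)) ∨ (e = 1 ∧ p = k + 1 ∧ q = k + 2)

/-- a signed permutation of the positions -/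
structure Bj (k : ℕ) (f : ℕ → ℕ) : Prop where
  lt : ∀ p, p < 2 * k + 4 → f p < 2 * k + 4
  inj : ∀ p q, p < 2 * k + 4 → q < 2 * k + 4 → f p = f q → p = q
  surj : ∀ v, v < 2 * k + 4 → ∃ p, p < 2 * k + 4 ∧ f p = v
  sym : ∀ p q, p + q = 2 * k + 3 → f p + f q = 2 * k + 3

/-- compatibility -/
def Cm (k y c e y' c' e' : ℕ) (f : ℕ → ℕ) : Prop :=
  ∀ p q, p < q → q < 2 * k + 4 → f q < f p → (SP k y c e p q ↔ SP k y' c' e' (f q) (f p))

/-- the exchange of the two middle positions -/
def sw (k p : ℕ) : ℕ := if p = k + 1 then k + 2 else if p = k + 2 then k + 1 else p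

variable {k y c e y' c' e' : ℕ} {f : ℕ → ℕ}

theorem run (B : Bj k f) (C : Cm k y c e y' c' e' f) {p0 len : ℕ} (h1 : p0 + len ≤ k) (h2 : len ≤ f p0)
    (h3 : f p0 ≤ k ∨ k + 3 + len ≤ f p0) (h4 : ∀ p, p < p0 → f p + len < f p0 ∨ f p0 ≤ f p) :
    ∀ j, j ≤ len → ∀ i, i ≤ j → f (p0 + i) + i = f p0 := by
  intro j
  induction j with
  | zero => intro _ i hi; obtain rfl : i = 0 := by omega
            rfl
  | succ j ih =>
    intro hj i hi
    have ih' := ih (by omega)
    rcases Nat.lt_or_ge i (j + 1) with h5 | h5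
    · exact ih' i (by omega)
    obtain rfl : i = j + 1 := by omega
    have h6 := B.lt p0 (by omega)
    obtain ⟨q, hq, hf⟩ := B.surj (f p0 - (j + 1)) (by omega)
    have h7 := ih' j le_rfl
    have h8 : p0 + j < q := by
      by_contra h9
      rcases Nat.lt_or_ge q p0 with h10 | h10
      · have := h4 q h10
        omega
      · have := ih' (q - p0) (by omega)
        rw [show p0 + (q - p0) = q by omega] at this
        omega
    have h9 := (C (p0 + j) q h8 hq (by omega)).2 (Or.inl (by omega))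
    have h10 : q = p0 + (j + 1) := by unfold SP at h9; omega
    rw [← h10]
    omega

theorem run' (B : Bj k f) (C : Cm k y c e y' c' e' f) {p0 len : ℕ} (h1 : p0 + len ≤ k) (h2 : len ≤ f p0)
    (h3 : f p0 ≤ k ∨ k + 3 + len ≤ f p0) (h4 : ∀ p, p < p0 → f p + len < f p0 ∨ f p0 ≤ f p) (p : ℕ) (h5 : p0 ≤ p)
    (h6 : p ≤ p0 + len) : f p + p = f p0 + p0 := by
  have := run B C h1 h2 h3 h4 len le_rfl (p - p0) (by omega)
  rw [show p0 + (p - p0) = p by omega] at this
  omega

theorem no4 (B : Bj k f) (C : Cm k y c e 1 c' e' f) {p : ℕ} (hp : p < k) : f p ≠ k + 3 := by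
  intro h
  have h1 := B.sym p (2 * k + 3 - p) (by omega)
  have h2 := (C p (2 * k + 3 - p) (by omega) (by omega) (by omega)).2 (by unfold SP; omega)
  unfold SP at h2
  omega

theorem run_up (B : Bj k f) (C : Cm k y c e 1 c' e' f) {p0 : ℕ} (h1 : p0 ≤ k) (h2 : k + 3 ≤ f p0)
    (h4 : ∀ p, p < p0 → f p < k + 3 ∨ f p0 ≤ f p) :
    2 * k + 3 ≤ f p0 + p0 ∧ ∀ p, p0 ≤ p → p ≤ k → f p + p = f p0 + p0 := by
  have h5 : 2 * k + 3 ≤ f p0 + p0 := by
    by_contra h6
    have h7 := run' B C (p0 := p0) (len := f p0 - (k + 3)) (by omega) (by omega) (by omega)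
      (fun p hp => by have := h4 p hp; omega) (p0 + (f p0 - (k + 3))) (by omega) le_rfl
    exact no4 B C (p := p0 + (f p0 - (k + 3))) (by omega) (by omega)
  exact ⟨h5, fun p h6 h7 => run' B C (p0 := p0) (len := k - p0) (by omega) (by omega) (by omega)
    (fun p hp => by have := h4 p hp; omega) p h6 (by omega)⟩

/-- `f` is an involution of the first `lo` positions -/
def Iv (f : ℕ → ℕ) (lo : ℕ) : Prop := ∀ p, p < lo → f p < lo ∧ f (f p) = p

theorem Iv.ge (B : Bj k f) {lo : ℕ} (I : Iv f lo) (hlo : lo ≤ k + 1) {q : ℕ} (h1 : lo ≤ q) (h2 : q < 2 * k + 4) :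
    lo ≤ f q := by
  by_contra h
  have h3 := I (f q) (by omega)
  have h4 := B.inj (f (f q)) q (by omega) h2 h3.2
  omega

theorem Iv.le (B : Bj k f) {lo : ℕ} (I : Iv f lo) (hlo : lo ≤ k + 1) {q : ℕ} (h2 : q + lo ≤ 2 * k + 3) :
    f q + lo ≤ 2 * k + 3 := by
  have h3 := I.ge B hlo (q := 2 * k + 3 - q) (by omega) (by omega)
  have h4 := B.sym q (2 * k + 3 - q) (by omega)
  omega

/-- the forms of the rest -/
def Sh (k c e c' e' : ℕ) (f : ℕ → ℕ) (lo : ℕ) : Prop :=
  (∀ p, lo ≤ p → p ≤ k → f p + p = 2 * k + 3) ∨ lo = k ∨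
    (lo < k ∧ (∀ p, lo < p → p ≤ k → f p + p = lo + 1 + k) ∧ ((f lo = k + 2 ∧ e' ≠ 1) ∨ (f lo = k + 1 ∧ c' = 1)) ∧
      ((f (k + 2) = lo ∧ e ≠ 1) ∨ (f (k + 1) = lo ∧ c = 1))) ∨
    (lo < k ∧ f lo = k + 1 ∧ f (k + 1) = lo ∧ (∀ p, lo < p → p ≤ k → f p + p = 2 * k + 3) ∧ c ≠ 1 ∧ c' ≠ 1)

theorem shapeC (B : Bj k f) (C : Cm k 1 c e 1 c' e' f) {lo : ℕ} (I : Iv f lo) (hlo : lo < k)
    (h : f lo = k + 2 ∨ (f lo = k + 1 ∧ c' = 1)) : Sh k c e c' e' f lo := by
  have h1 : f (lo + 1) = k := by
    obtain ⟨q, hq, hf⟩ := B.surj k (by omega)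
    have h2 : lo < q := by
      by_contra h3
      rcases Nat.lt_or_ge q lo with h4 | h4
      · have := I q h4
        omega
      · obtain rfl : q = lo := by omega
        omega
    have h3 := (C lo q h2 hq (by omega)).2 (by unfold SP; omega)
    obtain rfl : q = lo + 1 := by unfold SP at h3; omega
    exact hf
  have h2 : ∀ p, lo < p → p ≤ k → f p + p = lo + 1 + k := fun p h3 h4 => by
    have := run' B C (p0 := lo + 1) (len := k - (lo + 1)) (by omega) (by omega) (by omega) (fun p hp => by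
      rcases Nat.lt_or_ge p lo with h4 | h4
      · have := I p h4
        omega
      · obtain rfl : p = lo := by omega
        omega) p (by omega) (by omega)
    omega
  refine Or.inr (Or.inr (Or.inl ⟨hlo, h2, ?_, ?_⟩))
  · rcases h with h | h
    · refine Or.inl ⟨h, fun h3 => ?_⟩
      have h4 := B.sym lo (2 * k + 3 - lo) (by omega)
      have h5 := (C lo (2 * k + 3 - lo) (by omega) (by omega) (by omega)).2 (by unfold SP; omega)
      unfold SP at h5
      omega
    · exact Or.inr h
  · obtain ⟨q, hq, hf⟩ := B.surj lo (by omega)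
    have h3 : k < q := by
      by_contra h3
      rcases Nat.lt_trichotomy q lo with h4 | h4 | h4
      · have := I q h4
        omega
      · subst h4
        omega
      · have := h2 q h4 (by omega)
        omega
    have h4 := h2 k hlo le_rfl
    have h5 := (C k q h3 hq (by omega)).2 (by unfold SP; omega)
    have h6 := B.sym k (k + 3) (by omega)
    have h7 : q = k + 2 ∨ q = k + 3 ∨ (c = 1 ∧ q = k + 1) := by unfold SP at h5; omega
    rcases h7 with rfl | rfl | ⟨h7, rfl⟩
    · refine Or.inl ⟨hf, fun h8 => ?_⟩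
      have h9 := B.sym (k + 1) (k + 2) (by omega)
      have h10 := (C (k + 1) (k + 2) (by omega) (by omega) (by omega)).1 (by unfold SP; omega)
      unfold SP at h10
      omega
    · omega
    · exact Or.inr ⟨hf, h7⟩

theorem shapeD (B : Bj k f) (C : Cm k 1 c e 1 c' e' f) {lo : ℕ} (I : Iv f lo) (hlo : lo < k)
    (h : f lo = k + 1) (hc : c' ≠ 1) : Sh k c e c' e' f lo := by
  have h1 : k + 3 ≤ f (lo + 1) := by
    have h2 := B.sym lo (2 * k + 3 - lo) (by omega)
    have h3 := B.inj (lo + 1) lo (by omega) (by omega)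
    have h4 := B.inj (lo + 1) (2 * k + 3 - lo) (by omega) (by omega)
    by_contra h5
    have h6 := (C lo (lo + 1) (by omega) (by omega) (by omega)).1 (by unfold SP; omega)
    unfold SP at h6
    omega
  obtain ⟨h2, h3⟩ := run_up B C (p0 := lo + 1) (by omega) h1 fun p hp => by
    rcases Nat.lt_or_ge p lo with h4 | h4
    · have := I p h4
      omega
    · obtain rfl : p = lo := by omega
      omega
  have h4 := I.le B (by omega) (q := lo + 1) (by omega)
  have h5 := h3 k (by omega) le_rfl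
  have h6 := B.sym k (k + 3) (by omega)
  have h7 : f (lo + 1) + (lo + 1) = 2 * k + 3 := by
    by_contra h8
    have h9 := (C k (k + 3) (by omega) (by omega) (by omega)).1 (by unfold SP; omega)
    unfold SP at h9
    omega
  have h8 : ∀ p, lo < p → p ≤ k → f p + p = 2 * k + 3 := fun p h8 h9 => by
    have := h3 p h8 h9
    omega
  obtain ⟨q, hq, hf⟩ := B.surj lo (by omega)
  have h9 : k < q := by
    by_contra h9
    rcases Nat.lt_trichotomy q lo with h10 | h10 | h10
    · have := I q h10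
      omega
    · subst h10
      omega
    · have := h8 q h10 (by omega)
      omega
  have h10 : q < k + 3 := by
    by_contra h10
    have h11 := B.sym q (2 * k + 3 - q) (by omega)
    rcases Nat.lt_trichotomy (2 * k + 3 - q) lo with h12 | h12 | h12
    · have := I _ h12
      omega
    · rw [h12] at h11
      omega
    · have := h8 _ h12 (by omega)
      omega
  have h11 := C k q h9 hq (by omega)
  have h12 : ¬ SP k 1 c' e' (f q) (f k) := by unfold SP; omega
  rw [← h11] at h12
  obtain rfl : q = k + 1 := by unfold SP at h12; omega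
  exact Or.inr (Or.inr (Or.inr ⟨hlo, h, hf, h8, by unfold SP at h12; omega, hc⟩))

theorem shape_aux (B : Bj k f) (C : Cm k 1 c e 1 c' e' f) : ∀ d lo, k + 1 ≤ lo + d → lo ≤ k + 1 → Iv f lo →
    ∃ lo, lo ≤ k + 1 ∧ Iv f lo ∧ Sh k c e c' e' f lo := by
  intro d
  induction d with
  | zero => exact fun lo h1 h2 I => ⟨lo, h2, I, Or.inl fun p h3 h4 => by omega⟩
  | succ d ih =>
    intro lo h1 h2 I
    rcases Nat.lt_trichotomy lo k with h3 | h3 | h3
    swap
    · exact ⟨lo, h2, I, Or.inr (Or.inl h3)⟩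
    swap
    · exact ⟨lo, h2, I, Or.inl fun p h3 h4 => by omega⟩
    have h4 := I.ge B h2 (q := lo) le_rfl (by omega)
    have h5 := I.le B h2 (q := lo) (by omega)
    by_cases h6 : f lo ≤ k
    · have h7 := run' B C (p0 := lo) (len := f lo - lo) (by omega) (by omega) (Or.inl h6) fun p hp => by
        have := I p hp
        omega
      refine ih (f lo + 1) (by omega) (by omega) fun p hp => ?_
      rcases Nat.lt_or_ge p lo with h8 | h8
      · have := I p h8
        omega
      · have h9 := h7 p h8 (by omega)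
        have h10 := h7 (f p) (by omega) (by omega)
        omega
    refine ⟨lo, h2, I, ?_⟩
    by_cases h7 : k + 3 ≤ f lo
    · obtain ⟨h8, h9⟩ := run_up B C (p0 := lo) (by omega) h7 fun p hp => by
        have := I p hp
        omega
      exact Or.inl fun p h10 h11 => by
        have := h9 p h10 h11
        omega
    by_cases h8 : f lo = k + 2 ∨ (f lo = k + 1 ∧ c' = 1)
    · exact shapeC B C I h3 h8
    · exact shapeD B C I h3 (by omega) (by omega)

theorem shape (B : Bj k f) (C : Cm k 1 c e 1 c' e' f) : ∃ lo, lo ≤ k + 1 ∧ Iv f lo ∧ Sh k c e c' e' f lo :=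
  shape_aux B C (k + 1) 0 (by omega) (by omega) fun _ h => by omega

theorem mid (B : Bj k f) {lo : ℕ} (hlo : lo ≤ k + 1) (I : Iv f lo) (h : ∀ p, lo ≤ p → p ≤ k → f p + p = 2 * k + 3) :
    f (k + 1) = k + 1 ∨ f (k + 1) = k + 2 := by
  have h1 : ∀ q, k + 1 ≤ q → q ≤ k + 2 → k < f q := fun q h2 h3 => by
    by_contra h4
    have h5 := I.ge B hlo (q := q) (by omega) (by omega)
    have h6 := h (f q) h5 (by omega)
    have h7 := B.sym (f q) (2 * k + 3 - f q) (by omega)
    have h8 := B.inj q (2 * k + 3 - f q) (by omega) (by omega) (by omega)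
    omega
  have h2 := h1 (k + 1) (by omega) (by omega)
  have h3 := h1 (k + 2) (by omega) (by omega)
  have h4 := B.sym (k + 1) (k + 2) (by omega)
  omega

theorem sw_lt {p : ℕ} (hp : p < 2 * k + 4) : sw k p < 2 * k + 4 := by unfold sw; split_ifs <;> omega

theorem sw_sw (k p : ℕ) : sw k (sw k p) = p := by unfold sw; split_ifs <;> omega

theorem sw_of {p : ℕ} (hp : p ≤ k ∨ k + 3 ≤ p) : sw k p = p := by unfold sw; split_ifs <;> omega

theorem sw_one (k : ℕ) : sw k (k + 1) = k + 2 := by unfold sw; split_ifs <;> omega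

theorem sw_two (k : ℕ) : sw k (k + 2) = k + 1 := by unfold sw; split_ifs <;> omega

theorem Bj.csw (B : Bj k f) : Bj k fun p => f (sw k p) where
  lt p hp := B.lt _ (sw_lt hp)
  inj p q hp hq h := by rw [← sw_sw k p, B.inj _ _ (sw_lt hp) (sw_lt hq) h, sw_sw]
  surj v hv := by
    obtain ⟨p, hp, h⟩ := B.surj v hv
    exact ⟨_, sw_lt hp, by rw [sw_sw, h]⟩
  sym p q h := B.sym _ _ (by unfold sw; split_ifs <;> omega)

theorem inv_of_half (B : Bj k f) (h : ∀ p, p ≤ k + 1 → f (f p) = p) (p : ℕ) (hp : p < 2 * k + 4) : f (f p) = p := by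
  rcases Nat.lt_or_ge (k + 1) p with h1 | h1
  · have h2 := h (2 * k + 3 - p) (by omega)
    have h3 := B.sym p (2 * k + 3 - p) (by omega)
    have h4 := B.sym _ _ h3
    omega
  · exact h p h1

/-- the involutions: `lo` and `m` are exchanged, the positions between are reflected -/
theorem inv_of (B : Bj k f) {lo m : ℕ} (I : Iv f lo) (h0 : lo ≤ k) (hm : m = k + 1 ∨ m = k + 2) (h1 : f lo = m)
    (h2 : f m = lo) (h3 : (∀ p, lo < p → p ≤ k → f p + p = lo + 1 + k) ∨ ∀ p, lo < p → p ≤ k → f p + p = 2 * k + 3) :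
    ∀ p, p < 2 * k + 4 → f (f p) = p := by
  refine inv_of_half B fun p hp => ?_
  rcases Nat.lt_trichotomy p lo with h4 | h4 | h4
  · exact (I p h4).2
  · rw [h4, h1, h2]
  rcases Nat.lt_or_ge k p with h5 | h5
  · obtain rfl : p = k + 1 := by omega
    rcases hm with rfl | rfl
    · rw [h2, h1]
    · have h6 := B.sym (k + 1) (k + 2) (by omega)
      have h7 := B.sym _ _ h6
      rw [h2, h1] at h7
      omega
  rcases h3 with h3 | h3
  · have h6 := h3 p h4 h5
    have h7 := h3 (f p) (by omega) (by omega)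
    omega
  · have h6 := h3 p h4 h5
    have h7 := B.sym _ _ h6
    omega

theorem inv_A (B : Bj k f) {lo : ℕ} (hlo : lo ≤ k + 1) (I : Iv f lo) (h : ∀ p, lo ≤ p → p ≤ k → f p + p = 2 * k + 3) :
    ∀ p, p < 2 * k + 4 → f (f p) = p := by
  refine inv_of_half B fun p hp => ?_
  rcases Nat.lt_or_ge p lo with h4 | h4
  · exact (I p h4).2
  rcases Nat.lt_or_ge k p with h5 | h5
  · obtain rfl : p = k + 1 := by omega
    have h6 := B.sym (k + 1) (k + 2) (by omega)
    rcases mid B hlo I h with h7 | h7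
    · rw [h7, h7]
    · rw [h7]; omega
  · have h6 := h p h4 h5
    have h7 := B.sym _ _ h6
    omega

theorem Iv.csw {lo : ℕ} (I : Iv f lo) (hlo : lo ≤ k) : Iv (fun p => f (sw k p)) lo := fun p hp => by
  have := I p hp
  show f (sw k p) < lo ∧ f (sw k (f (sw k p))) = p
  rw [sw_of (p := p) (by omega), sw_of (p := f p) (by omega)]
  exact this

/-- the four middle positions -/
theorem base (B : Bj k f) (I : Iv f k) : f k = k ∨ f k = k + 3 ∨ ((f k = k + 1 ∨ f k = k + 2) ∧
    (f (k + 1) = k ∨ f (k + 2) = k)) := by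
  have h1 := I.ge B (by omega) (q := k) (by omega) (by omega)
  have h2 := I.le B (by omega) (q := k) (by omega)
  have h3 := I.ge B (by omega) (q := k + 1) (by omega) (by omega)
  have h4 := I.le B (by omega) (q := k + 1) (by omega)
  have h5 := B.sym (k + 1) (k + 2) (by omega)
  have h6 := B.inj k (k + 1) (by omega) (by omega)
  have h7 := B.inj k (k + 2) (by omega) (by omega)
  omega

theorem Iv.succ {lo : ℕ} (I : Iv f lo) (h : f lo = lo) : Iv f (lo + 1) := fun p hp => by
  rcases Nat.lt_or_ge p lo with h1 | h1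
  · have := I p h1
    omega
  · obtain rfl : p = lo := by omega
    rw [h, h]
    omega

/-- **(I)** -/
theorem inv_one (B : Bj k f) (C : Cm k 1 0 e 1 0 e' f) : ∀ p, p < 2 * k + 4 → f (f p) = p := by
  obtain ⟨lo, hlo, I, h | rfl | ⟨h1, h2, h3, h4⟩ | ⟨h1, h2, h3, h4, -⟩⟩ := shape B C
  · exact inv_A B hlo I h
  · rcases base B I with h | h | ⟨h, h'⟩
    · exact inv_A B le_rfl (I.succ h) fun p h1 h2 => by omega
    · exact inv_A B hlo I fun p h1 h2 => by obtain rfl : p = lo := by omega
                                            omega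
    · have h1 := C lo (lo + 1) (by omega) (by omega)
      have h2 := C lo (lo + 2) (by omega) (by omega)
      rcases h with h | h <;> rcases h' with h' | h'
      · exact inv_of B I le_rfl (Or.inl rfl) h h' (Or.inl fun p _ _ => by omega)
      · rw [h, h'] at h2
        unfold SP at h2
        omega
      · rw [h, h'] at h1
        unfold SP at h1
        omega
      · exact inv_of B I le_rfl (Or.inr rfl) h h' (Or.inl fun p _ _ => by omega)
  · exact inv_of B I h1.le (Or.inr rfl) (by omega) (by omega) (Or.inl h2)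
  · exact inv_of B I h1.le (Or.inl rfl) h2 h3 (Or.inr h4)

theorem inv_two_of (B : Bj k f) {lo : ℕ} (I : Iv f lo) (h0 : lo ≤ k) (h1 : f lo = k + 1 ∨ f lo = k + 2)
    (h2 : f (k + 1) = lo ∨ f (k + 2) = lo) (h3 : ∀ p, lo < p → p ≤ k → f p + p = lo + 1 + k) :
    (∀ p, p < 2 * k + 4 → f (f p) = p) ∨ ∀ p, p < 2 * k + 4 → f (sw k (f (sw k p))) = p := by
  have h4 : ∀ p, lo < p → p ≤ k → f (sw k p) + p = lo + 1 + k := fun p h4 h5 => by
    rw [sw_of (Or.inl h5)]
    exact h3 p h4 h5
  rcases h1 with h1 | h1 <;> rcases h2 with h2 | h2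
  · exact Or.inl (inv_of B I h0 (Or.inl rfl) h1 h2 (Or.inl h3))
  · exact Or.inr (inv_of B.csw (I.csw h0) h0 (Or.inl rfl) (by rw [← h1]; exact congrArg f (sw_of (Or.inl h0)))
      (by rw [← h2]; exact congrArg f (sw_one k)) (Or.inl h4))
  · exact Or.inr (inv_of B.csw (I.csw h0) h0 (Or.inr rfl) (by rw [← h1]; exact congrArg f (sw_of (Or.inl h0)))
      (by rw [← h2]; exact congrArg f (sw_two k)) (Or.inl h4))
  · exact Or.inl (inv_of B I h0 (Or.inr rfl) h1 h2 (Or.inl h3))

/-- **(II)** -/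
theorem inv_two (B : Bj k f) (C : Cm k 1 1 e 1 1 e' f) :
    (∀ p, p < 2 * k + 4 → f (f p) = p) ∨ ∀ p, p < 2 * k + 4 → f (sw k (f (sw k p))) = p := by
  obtain ⟨lo, hlo, I, h | rfl | ⟨h1, h2, h3, h4⟩ | ⟨h1, h2, h3, h4, h5, -⟩⟩ := shape B C
  · exact Or.inl (inv_A B hlo I h)
  · rcases base B I with h | h | ⟨h, h'⟩
    · exact Or.inl (inv_A B le_rfl (I.succ h) fun p h1 h2 => by omega)
    · exact Or.inl (inv_A B hlo I fun p h1 h2 => by obtain rfl : p = lo := by omega
                                                    omega)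
    · exact inv_two_of B I le_rfl h h' fun p _ _ => by omega
  · exact inv_two_of B I h1.le (by omega) (by omega) h2
  · exact absurd rfl h5

/-- **(III)** -/
theorem cross (B : Bj k f) (C : Cm k 1 1 e 1 0 e' f) (he : e = 1 ↔ e' ≠ 1) (hm : f (k + 2) < f (k + 1)) : False := by
  have h0 := C (k + 1) (k + 2) (by omega) (by omega) hm
  have hs := B.sym (k + 1) (k + 2) (by omega)
  have hA : ∀ lo, lo ≤ k + 1 → Iv f lo → (∀ p, lo ≤ p → p ≤ k → f p + p = 2 * k + 3) → False := fun lo hlo I h => by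
    have := mid B hlo I h
    unfold SP at h0
    omega
  obtain ⟨lo, hlo, I, h | rfl | ⟨h1, h2, h3, h4⟩ | ⟨h1, h2, h3, h4, h5, -⟩⟩ := shape B C
  · exact hA lo hlo I h
  · rcases base B I with h | h | ⟨h, h'⟩
    · exact hA _ le_rfl (I.succ h) fun p h1 h2 => by omega
    · exact hA _ hlo I fun p h1 h2 => by obtain rfl : p = lo := by omega
                                         omega
    · have h1 : f (lo + 2) = lo := by omega
      have h2 := C lo (lo + 2) (by omega) (by omega) (by omega)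
      have h3 := C lo (lo + 3) (by omega) (by omega)
      have h4 := B.sym lo (lo + 3) (by omega)
      have h5 : e = 1 := by unfold SP at h0; omega
      have h6 : f lo = lo + 2 := by unfold SP at h2; omega
      unfold SP at h3
      omega
  · omega
  · exact absurd rfl h5

/-! ### from the Gelfand-Graev character to `X₂` -/

theorem spG {p q : ℕ} : SP k 0 1 1 p q ↔ q = p + 1 := by unfold SP; omega

theorem adj (C : Cm k 0 1 1 0 1 1 f) {p : ℕ} (hp : p + 1 < 2 * k + 4) (h : f (p + 1) < f p) : f p = f (p + 1) + 1 :=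
  spG.1 ((C p (p + 1) (by omega) hp h).1 (spG.2 rfl))

theorem gam_one (B : Bj k f) (C : Cm k 0 1 1 0 1 1 f) (h : f k < f (k + 1)) : Cm k 1 0 1 0 1 1 f := by
  intro p q h1 h2 h3
  rw [← C p q h1 h2 h3, spG]
  have h4 := B.sym k (k + 3) (by omega)
  have h5 := B.sym (k + 1) (k + 2) (by omega)
  have h6 : f (k + 2) < f (k + 1) → f (k + 1) = f (k + 2) + 1 := adj C (p := k + 1) (by omega)
  have h7 := B.inj k (k + 2) (by omega) (by omega)
  have h8 : ¬ (p = k ∧ q = k + 1) := by rintro ⟨rfl, rfl⟩; omega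
  have h9 : ¬ (p = k ∧ q = k + 2) := by rintro ⟨rfl, rfl⟩; omega
  have h10 : ¬ (p = k ∧ q = k + 3) := by rintro ⟨rfl, rfl⟩; omega
  have h11 : ¬ (p = k + 1 ∧ q = k + 3) := by rintro ⟨rfl, rfl⟩; omega
  have h12 : ¬ (p = k + 2 ∧ q = k + 3) := by rintro ⟨rfl, rfl⟩; omega
  unfold SP
  omega

theorem gam_two (B : Bj k f) (C : Cm k 0 1 1 0 1 1 f) (h : f (k + 1) < f k) (h' : f (k + 1) < f (k + 2)) :
    Cm k 1 1 0 0 1 1 fun p => f (sw k p) := by
  intro p q h1 h2 h3
  have h4 := B.sym k (k + 3) (by omega)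
  have h5 := B.sym (k + 1) (k + 2) (by omega)
  have h6 : f k = f (k + 1) + 1 := adj C (p := k) (by omega) h
  have h7 := B.inj k (k + 2) (by omega) (by omega)
  have h7' := B.inj k (k + 3) (by omega) (by omega)
  by_cases h0 : p = k + 1 ∧ q = k + 2
  · obtain ⟨rfl, rfl⟩ := h0
    show _ ↔ SP k 0 1 1 (f (sw k (k + 2))) (f (sw k (k + 1)))
    rw [sw_one, sw_two, spG]
    unfold SP
    omega
  have h8 : sw k p < sw k q := by unfold sw; split_ifs <;> omega
  have h9 := C _ _ h8 (sw_lt h2) h3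
  show _ ↔ SP k 0 1 1 (f (sw k q)) (f (sw k p))
  rw [← h9, spG]
  change f (sw k q) < f (sw k p) at h3
  have h10 : ¬ (p = k ∧ q = k + 1) := by rintro ⟨rfl, rfl⟩; rw [sw_one, sw_of (Or.inl le_rfl)] at h3; omega
  have h11 : ¬ (p = k ∧ q = k + 3) := by
    rintro ⟨rfl, rfl⟩; rw [sw_of (Or.inr le_rfl), sw_of (Or.inl le_rfl)] at h3; omega
  have h12 : ¬ (p = k + 2 ∧ q = k + 3) := by rintro ⟨rfl, rfl⟩; rw [sw_two, sw_of (Or.inr le_rfl)] at h3; omega
  unfold SP sw
  split_ifs <;> omega

theorem exists_lo (B : Bj k f) (C : Cm k 0 1 1 0 1 1 f) (h : f (k + 1) < f k) (h' : f (k + 2) < f (k + 1)) :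
    ∃ lo, lo ≤ k ∧ (∀ p, lo ≤ p → p ≤ k + 1 → f p + p = 2 * k + 3) ∧ ∀ p, p < lo → f p < lo := by
  classical
  have h0 : ∀ p, k ≤ p → p ≤ k + 1 → f p + p = 2 * k + 3 := fun p h1 h2 => by
    have h3 := adj C (p := k) (by omega) h
    have h4 : f (k + 1) = f (k + 2) + 1 := adj C (p := k + 1) (by omega) h'
    have h5 := B.sym (k + 1) (k + 2) (by omega)
    obtain rfl | rfl : p = k ∨ p = k + 1 := by omega
    all_goals omega
  have hex : ∃ lo, ∀ p, lo ≤ p → p ≤ k + 1 → f p + p = 2 * k + 3 := ⟨k, h0⟩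
  have h1 := Nat.find_spec hex
  have h2 := Nat.find_min' hex h0
  have h3 : ∀ m, m < Nat.find hex → ¬ ∀ p, m ≤ p → p ≤ k + 1 → f p + p = 2 * k + 3 := fun m hm => Nat.find_min hex hm
  generalize Nat.find hex = lo at h1 h2 h3
  refine ⟨lo, h2, h1, ?_⟩
  have h4 : ∀ p, p < lo → f p < lo ∨ 2 * k + 3 < f p + lo := fun p hp => by
    by_contra h5
    have h6 : f (2 * k + 3 - f p) = f p := by
      rcases Nat.lt_or_ge (k + 1) (f p) with h6 | h6
      · have := h1 (2 * k + 3 - f p) (by omega) (by omega)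
        omega
      · have h7 := h1 (f p) (by omega) h6
        have := B.sym (f p) (2 * k + 3 - f p) (by omega)
        omega
    have := B.inj _ _ (by omega) (by omega) h6
    omega
  have h5 : ∀ d p, p + d + 1 = lo → f p < lo := by
    intro d
    induction d with
    | zero =>
      intro p hp
      by_contra h6
      have h7 := h1 (p + 1) (by omega) (by omega)
      have h8 := h4 p (by omega)
      have h9 := adj C (p := p) (by omega) (by omega)
      refine h3 p (by omega) fun r h10 h11 => ?_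
      rcases Nat.lt_or_ge p r with h12 | h12
      · exact h1 r (by omega) h11
      · obtain rfl : r = p := by omega
        omega
    | succ d ih =>
      intro p hp
      by_contra h6
      have h7 := ih (p + 1) (by omega)
      have h8 := h4 p (by omega)
      have h9 := adj C (p := p) (by omega) (by omega)
      omega
  exact fun p hp => h5 (lo - p - 1) p (by omega)

/-- the modified central block -/
def cb (k lo : ℕ) (f : ℕ → ℕ) (p : ℕ) : ℕ :=
  if p < lo ∨ 2 * k + 3 < p + lo then f p else if p ≤ k then 2 * k + 2 - p else if p = k + 1 then lo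
  else if p = k + 2 then 2 * k + 3 - lo else 2 * k + 4 - p

theorem cb_out {lo p : ℕ} (hp : p < lo ∨ 2 * k + 3 < p + lo) : cb k lo f p = f p := if_pos hp

theorem cb_in {lo p : ℕ} (hlo : lo ≤ k) (h1 : lo ≤ p) (h2 : p + lo ≤ 2 * k + 3) :
    (p ≤ k ∧ cb k lo f p + p = 2 * k + 2) ∨ (p = k + 1 ∧ cb k lo f p = lo) ∨ (p = k + 2 ∧ cb k lo f p + lo = 2 * k + 3) ∨
      (k + 3 ≤ p ∧ cb k lo f p + p = 2 * k + 4) := by
  unfold cb
  split_ifs <;> omega

theorem gam_three (B : Bj k f) (C : Cm k 0 1 1 0 1 1 f) (h : f (k + 1) < f k) (h' : f (k + 2) < f (k + 1)) :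
    ∃ g, Bj k g ∧ Cm k 1 0 1 0 1 1 g ∧ g (k + 1) < g k ∧ ∀ p, p < 2 * k + 4 →
      f p = if p < g (k + 1) ∨ 2 * k + 3 < p + g (k + 1) then g p else 2 * k + 3 - p := by
  obtain ⟨lo, h1, h2, h3⟩ := exists_lo B C h h'
  have h4 : ∀ p, 2 * k + 3 < p + lo → p < 2 * k + 4 → 2 * k + 3 < f p + lo := fun p h5 h6 => by
    have h7 := B.sym p (2 * k + 3 - p) (by omega)
    have h8 := h3 (2 * k + 3 - p) (by omega)
    omega
  have h5 : ∀ p, lo ≤ p → p + lo ≤ 2 * k + 3 → f p + p = 2 * k + 3 := fun p h5 h6 => by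
    rcases Nat.lt_or_ge (k + 1) p with h7 | h7
    · have h8 := h2 (2 * k + 3 - p) (by omega) (by omega)
      have h9 := B.sym p (2 * k + 3 - p) (by omega)
      omega
    · exact h2 p h5 h7
  have h6 : ∀ p, p < 2 * k + 4 → (p < lo ∧ cb k lo f p = f p ∧ f p < lo) ∨
      (2 * k + 3 < p + lo ∧ cb k lo f p = f p ∧ 2 * k + 3 < f p + lo) ∨
      (lo ≤ p ∧ p + lo ≤ 2 * k + 3 ∧ lo ≤ cb k lo f p ∧ cb k lo f p + lo ≤ 2 * k + 3) := fun p hp => by
    by_cases h7 : p < lo
    · exact Or.inl ⟨h7, cb_out (Or.inl h7), h3 p h7⟩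
    by_cases h8 : 2 * k + 3 < p + lo
    · exact Or.inr (Or.inl ⟨h8, cb_out (Or.inr h8), h4 p h8 hp⟩)
    have := cb_in (f := f) (p := p) h1 (by omega) (by omega)
    omega
  have h7 : cb k lo f (k + 1) = lo := by
    have := cb_in (f := f) (p := k + 1) h1 (by omega) (by omega)
    omega
  refine ⟨cb k lo f, ⟨fun p hp => ?_, fun p q hp hq e => ?_, fun v hv => ?_, fun p q e => ?_⟩, fun p q h8 h9 h10 => ?_, ?_,
    fun p hp => ?_⟩
  · have := h6 p hp
    have := B.lt p hp
    omega
  · rcases h6 p hp with h8 | h8 | h8 <;> rcases h6 q hq with h9 | h9 | h9 <;> try omega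
    · exact B.inj p q hp hq (by omega)
    · exact B.inj p q hp hq (by omega)
    · have := cb_in (f := f) h1 h8.1 h8.2.1
      have := cb_in (f := f) h1 h9.1 h9.2.1
      omega
  · by_cases h8 : v < lo ∨ 2 * k + 3 < v + lo
    · obtain ⟨p, hp, e⟩ := B.surj v hv
      refine ⟨p, hp, ?_⟩
      rw [cb_out, e]
      by_contra h9
      have := h5 p (by omega) (by omega)
      omega
    · by_cases h9 : v = lo
      · exact ⟨k + 1, by omega, by omega⟩
      by_cases h10 : v + lo = 2 * k + 3
      · refine ⟨k + 2, by omega, ?_⟩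
        have := cb_in (f := f) (p := k + 2) h1 (by omega) (by omega)
        omega
      by_cases h11 : v ≤ k + 1
      · refine ⟨2 * k + 4 - v, by omega, ?_⟩
        have := cb_in (f := f) (p := 2 * k + 4 - v) h1 (by omega) (by omega)
        omega
      · refine ⟨2 * k + 2 - v, by omega, ?_⟩
        have := cb_in (f := f) (p := 2 * k + 2 - v) h1 (by omega) (by omega)
        omega
  · by_cases h8 : p < lo ∨ 2 * k + 3 < p + lo
    · rw [cb_out h8, cb_out (by omega)]
      exact B.sym p q e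
    · have := cb_in (f := f) (p := p) h1 (by omega) (by omega)
      have := cb_in (f := f) (p := q) h1 (by omega) (by omega)
      omega
  · rcases h6 p (by omega) with h11 | h11 | h11 <;> rcases h6 q h9 with h12 | h12 | h12 <;> try omega
    · rw [h11.2.1, h12.2.1, ← C p q h8 h9 (by omega), spG]
      unfold SP
      omega
    · rw [h11.2.1, h12.2.1, ← C p q h8 h9 (by omega), spG]
      unfold SP
      omega
    · have h13 := cb_in (f := f) h1 h11.1 h11.2.1
      have h14 := cb_in (f := f) h1 h12.1 h12.2.1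
      rw [spG]
      unfold SP
      omega
  · have := cb_in (f := f) (p := k) h1 (by omega) (by omega)
    omega
  · rw [h7]
    split_ifs with h8
    · exact (cb_out h8).symm
    · have := h5 p (by omega) (by omega)
      omega

end Cfsg.Agent.MK.Sp2.B
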