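import Cfsg.Agent.MK.Sp2.Abs
import Cfsg.Agent.H466.T3.Gelfand
import Cfsg.Agent.Characters.Brauer

/-!
# MK, `Sp_{2n}(2)`: induced sign characters (helper43)

* `Sn H φ` : `φ` is a sign character of `H`;  `Cp H K φ β x` : compatible elements;
* `inner_cnt` : the scalar product of two induced sign characters is the number of compatible double cosets;
* `mf_sn` : Gelfand's trick;  `mf_add`, `eq_of_le` : multiplicities;  `mn_three` : means on a group of type `V . S₃`.
-/

set_option autoImplicit false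
set_option maxHeartbeats 400000
set_option linter.unusedSectionVars false

open scoped ComplexConjugate

namespace Cfsg.Agent.MK.Sp2.B

open Cfsg Cfsg.Agent.Characters Cfsg.Agent.Characters.Core
open Cfsg.Agent.OddOrderCharacters.Clifford (classInner_indFun)

variable {G : Type} [Group G] [Finite G] {H K : Subgroup G} {φ β : G → ℂ}

/-- a sign character -/
structure Sn (H : Subgroup G) (φ : G → ℂ) : Prop where
  mul : ∀ u ∈ H, ∀ v ∈ H, φ (u * v) = φ u * φ v
  sq : ∀ u ∈ H, φ u = 1 ∨ φ u = -1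

namespace Sn

variable (s : Sn H φ)
include s

theorem self {u : G} (hu : u ∈ H) : φ u * φ u = 1 := by rcases s.sq u hu with h | h <;> simp [h]

theorem star {u : G} (hu : u ∈ H) : conj (φ u) = φ u := by rcases s.sq u hu with h | h <;> simp [h]

theorem one : φ 1 = 1 := by rw [← s.self H.one_mem, ← s.mul _ H.one_mem _ H.one_mem, mul_one]

theorem inv {u : G} (hu : u ∈ H) : φ u⁻¹ = φ u := by
  have h1 := s.mul _ (H.inv_mem hu) _ hu
  rw [inv_mul_cancel, s.one] at h1
  rw [← mul_one (φ u⁻¹), ← s.self hu, ← mul_assoc, ← h1, one_mul]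

theorem cl : Cl H φ := fun x hx y hy => by
  rw [s.mul _ (H.mul_mem hy hx) _ (H.inv_mem hy), s.mul _ hy _ hx, s.inv hy, mul_right_comm, s.self hy, one_mul]

theorem mono (h : K ≤ H) : Sn K φ := ⟨fun u hu v hv => s.mul u (h hu) v (h hv), fun u hu => s.sq u (h hu)⟩

theorem times (s' : Sn H β) : Sn H fun x => φ x * β x :=
  ⟨fun u hu v hv => by rw [s.mul u hu v hv, s'.mul u hu v hv]; ring, fun u hu => by
    rcases s.sq u hu with h | h <;> rcases s'.sq u hu with h' | h' <;> simp [h, h']⟩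

/-- the homomorphism -/
noncomputable def hom : H →* ℂˣ := MonoidHom.toHomUnits
  { toFun := fun u => φ u, map_one' := s.one, map_mul' := fun u v => s.mul u u.2 v v.2 }

theorem coe_hom (u : H) : (s.hom u : ℂ) = φ u := rfl

theorem isChar [Fintype G] : IsCharacter G (ii H φ) := Brauer.isCharacter_indFun H (Linear.isCharacter_hom s.hom)

end Sn

/-- compatible elements -/
def Cp (H K : Subgroup G) (φ β : G → ℂ) (x : G) : Prop := ∀ q ∈ H, x⁻¹ * q * x ∈ K → φ q = β (x⁻¹ * q * x)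

theorem term_one (s' : Sn K β) {x : G} (h : Cp H K φ β x) :
    (mn (dd H K x) fun q => φ q * conj (β (x⁻¹ * q * x))) = 1 := by
  rw [← mn_const (dd H K x) 1]
  exact mn_congr fun q hq => by rw [h q (mem_dd.1 hq).1 (mem_dd.1 hq).2, s'.star (mem_dd.1 hq).2, s'.self (mem_dd.1 hq).2]

theorem term_zero (s : Sn H φ) (s' : Sn K β) {x : G} (h : ¬ Cp H K φ β x) :
    (mn (dd H K x) fun q => φ q * conj (β (x⁻¹ * q * x))) = 0 := by
  simp only [Cp, not_forall] at h
  obtain ⟨a, h1, h2, h3⟩ := h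
  refine mn_sign (a := a) (mem_dd.2 ⟨h1, h2⟩) fun q hq => ?_
  obtain ⟨h4, h5⟩ := mem_dd.1 hq
  rw [show x⁻¹ * (q * a) * x = (x⁻¹ * q * x) * (x⁻¹ * a * x) by group, s.mul _ h4 _ h1, s'.mul _ h5 _ h2, map_mul,
    s'.star h2]
  rcases s.sq a h1 with h6 | h6 <;> rcases s'.sq _ h2 with h7 | h7 <;> rw [h6, h7] at h3 ⊢
  · exact absurd rfl h3
  · ring
  · ring
  · exact absurd rfl h3

variable [Fintype G]

theorem inner_cnt (s : Sn H φ) (s' : Sn K β) {ι : Type*} [Finite ι] (r : ι → G)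
    (hdis : ∀ i j, ∀ a ∈ H, ∀ b ∈ K, r j = a * r i * b → i = j) (hcov : ∀ x, ∃ i, ∃ a ∈ H, ∃ b ∈ K, x = a * r i * b) :
    classInner (ii H φ) (ii K β) = Nat.card {i // Cp H K φ β (r i)} := by
  classical
  have := Fintype.ofFinite ι
  rw [inner_ii_ii s.cl s'.cl r hdis hcov, Nat.card_eq_fintype_card, Fintype.card_subtype, Finset.card_filter, Nat.cast_sum]
  refine Finset.sum_congr rfl fun i _ => ?_
  split_ifs with h
  · rw [term_one s' h, Nat.cast_one]
  · rw [term_zero s s' h, Nat.cast_zero]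

/-- **Gelfand's trick** -/
theorem mf_sn (s : Sn H φ) (h : ∀ g, ∃ a ∈ H, ∃ m, ∃ b ∈ H, g = a * m * b ∧ (Cp H H φ φ m → ∃ c ∈ H, m⁻¹ = c * m * c))
    {χ : G → ℂ} (hχ : IsIrrCharacter G χ) : classInner (ii H φ) χ = 0 ∨ classInner (ii H φ) χ = 1 := by
  have := Fintype.ofFinite H
  have h1 := H466.T3.Gelfand.mult_le_one H.subtype s.hom (fun g => g⁻¹) (Equiv.inv H) (fun x y => mul_inv_rev x y)
    (fun _ => rfl) (fun a => Units.ext (s.inv a.2)) (fun g => by
      obtain ⟨a, ha, m, b, hb, rfl, h1⟩ := h g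
      by_cases h2 : Cp H H φ φ m
      · obtain ⟨c, hc, h3⟩ := h1 h2
        have h4 : b⁻¹ * c * a⁻¹ ∈ H := H.mul_mem (H.mul_mem (H.inv_mem hb) hc) (H.inv_mem ha)
        refine Or.inl ⟨⟨_, h4⟩, ⟨_, h4⟩, ?_, Units.ext (s.self h4)⟩
        show (a * m * b)⁻¹ = (b⁻¹ * c * a⁻¹) * (a * m * b) * (b⁻¹ * c * a⁻¹)
        rw [mul_inv_rev, mul_inv_rev, h3]
        group
      · simp only [Cp, not_forall] at h2
        obtain ⟨q, h3, h4, h5⟩ := h2
        refine Or.inr ⟨⟨a * q * a⁻¹, H.mul_mem (H.mul_mem ha h3) (H.inv_mem ha)⟩,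
          ⟨b⁻¹ * (m⁻¹ * q * m) * b⁻¹⁻¹, H.mul_mem (H.mul_mem (H.inv_mem hb) h4) (H.inv_mem (H.inv_mem hb))⟩, ?_,
          fun e => h5 ?_⟩
        · show a * q * a⁻¹ * (a * m * b) = a * m * b * (b⁻¹ * (m⁻¹ * q * m) * b⁻¹⁻¹)
          group
        · rw [← s.cl q h3 a ha, ← s.cl _ h4 _ (H.inv_mem hb)]
          exact congrArg Units.val e) hχ
  rw [ii, classInner_indFun _ _ _ (isIrr_isClassFunction hχ), ← classInner_conj_symm]
  rcases h1 with h1 | h1
  · exact Or.inl ((congrArg conj h1).trans (map_zero _))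
  · exact Or.inr ((congrArg conj h1).trans (map_one _))

theorem mf_add {X X' : G → ℂ} (hX : IsClassFunction G X) (hX' : IsClassFunction G X')
    (h1 : ∀ χ, IsIrrCharacter G χ → classInner X χ = 0 ∨ classInner X χ = 1)
    (h2 : ∀ χ, IsIrrCharacter G χ → classInner X' χ = 0 ∨ classInner X' χ = 1) (h3 : classInner X X' = 0) (χ : G → ℂ)
    (hχ : IsIrrCharacter G χ) : classInner (X + X') χ = 0 ∨ classInner (X + X') χ = 1 := by
  classical
  have : Finite (IrrCharacter G) := finite_irr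
  have := Fintype.ofFinite (IrrCharacter G)
  have h4 : ∀ θ : IrrCharacter G, ∃ y : ℕ, classInner X θ * conj (classInner X' θ) = y := fun θ => by
    rcases h1 θ θ.2 with h5 | h5 <;> rcases h2 θ θ.2 with h6 | h6 <;> rw [h5, h6]
    exacts [⟨0, by simp⟩, ⟨0, by simp⟩, ⟨0, by simp⟩, ⟨1, by simp⟩]
  choose y hy using h4
  rw [classInner_eq_sum hX hX', Finset.sum_congr rfl fun θ _ => hy θ] at h3
  have h5 : ∑ θ, y θ = 0 := by exact_mod_cast h3
  have h6 := hy ⟨χ, hχ⟩
  rw [Finset.sum_eq_zero_iff.1 h5 _ (Finset.mem_univ _)] at h6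
  change classInner X χ * conj (classInner X' χ) = _ at h6
  rw [classInner_add_left]
  rcases h1 χ hχ with h7 | h7 <;> rcases h2 χ hχ with h8 | h8 <;> rw [h7, h8] at h6 ⊢ <;> simp at h6 ⊢

theorem eq_of_le {Γ X : G → ℂ} (hΓ : IsCharacter G Γ) (hX : IsClassFunction G X)
    (h2 : ∀ χ, IsIrrCharacter G χ → classInner X χ = 0 ∨ classInner X χ = 1) {N N' : ℕ} (h3 : classInner Γ Γ = N)
    (h4 : classInner X Γ = N') (h5 : N ≤ N') : classInner Γ X = classInner Γ Γ := by
  classical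
  have : Finite (IrrCharacter G) := finite_irr
  have := Fintype.ofFinite (IrrCharacter G)
  choose a ha using fun θ : IrrCharacter G => classInner_isNat hΓ (isIrr_isCharacter θ.2)
  have hy : ∀ θ : IrrCharacter G, ∃ y : ℕ, y ≤ 1 ∧ classInner X θ = y := fun θ => by
    rcases h2 θ θ.2 with h4 | h4
    · exact ⟨0, zero_le_one, by simp [h4]⟩
    · exact ⟨1, le_rfl, by simp [h4]⟩
  choose y hy1 hy using hy
  have hc := isCharacter_isClassFunction hΓ
  rw [← classInner_conj_symm, h4, h3, map_natCast]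
  rw [classInner_eq_sum hX hc] at h4
  rw [classInner_eq_sum hc hc] at h3
  simp only [ha, hy, map_natCast] at h3 h4
  have h6 : ∑ θ, a θ * a θ = N := by exact_mod_cast h3
  have h7 : ∑ θ, y θ * a θ = N' := by exact_mod_cast h4
  have h8 : ∑ θ, y θ * a θ ≤ ∑ θ, a θ * a θ := Finset.sum_le_sum fun θ _ => by
    have := hy1 θ
    rcases Nat.eq_zero_or_pos (a θ) with h | h
    · simp [h]
    · exact Nat.mul_le_mul_right _ (by omega)
  rw [show N' = N by omega]

omit [Fintype G]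

theorem mn_pair {A : Subgroup G} {t : G} (ht : t ≠ 1) (hA : ∀ x, x ∈ A ↔ x = 1 ∨ x = t) (F : G → ℂ) :
    mn A F = (F 1 + F t) / 2 := by
  classical
  have := Fintype.ofFinite A
  have h1 : (Finset.univ : Finset A) = {1, ⟨t, (hA t).2 (Or.inr rfl)⟩} := by
    ext x
    simp only [Finset.mem_univ, Finset.mem_insert, Finset.mem_singleton, true_iff, Subtype.ext_iff]
    exact (hA x).1 x.2
  have h2 : (1 : A) ≠ ⟨t, (hA t).2 (Or.inr rfl)⟩ := fun e => ht (congrArg Subtype.val e).symm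
  rw [mn_eq, Nat.card_eq_fintype_card, Fintype.card, h1, Finset.card_pair h2, Finset.sum_pair h2]
  simp only [OneMemClass.coe_one, Nat.cast_ofNat]
  ring

/-- a class function of `P = U ∪ U s U` which vanishes on the even part -/
theorem mn_three {P U V A : Subgroup G} {s t g : G} {F : G → ℂ} (hF : Cl P F) (hU : U ≤ P) (hV : V ≤ U) (hA : A ≤ U)
    (ht : t ≠ 1) (hA' : ∀ x, x ∈ A ↔ x = 1 ∨ x = t) (hAV : ∀ x ∈ U, ∃ a ∈ A, ∃ v ∈ V, x = a * v) (hs : s ∈ P)
    (hP : ∀ x ∈ P, x ∈ U ∨ ∃ u ∈ U, ∃ u' ∈ U, x = u * s * u') (hN : P ≤ Subgroup.normalizer (V : Set G)) (hg : g ∈ P)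
    (hst : s = g⁻¹ * t * g) (h1 : ∀ v ∈ V, F v = 0) (h2 : ∀ v ∈ V, F (s * t * v) = 0) : mn P F = mn U F := by
  have h3 : ∀ x, (mn U fun u => F (x * u)) = (av V F x + av V F (x * t)) / 2 := fun x => by
    rw [mn_prod hA hV hAV, mn_pair ht hA']
    simp only [av, one_mul, mul_assoc]
  have h4 : av V F s = av V F t := by
    unfold av
    rw [← mn_cj (H := V) (K := V) (g := g) fun v => by
      have := Subgroup.mem_normalizer_iff.1 (hN (P.inv_mem hg)) v
      rwa [inv_inv] at this]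
    refine mn_congr fun v hv => ?_
    rw [← hF (t * v) (P.mul_mem (hU (hA ((hA' t).2 (Or.inr rfl)))) (hU (hV hv))) _ (P.inv_mem hg), hst]
    congr 1
    group
  have h5 : (mn U fun u => F (s * u)) = mn U F := by
    have h6 := h3 1
    simp only [one_mul] at h6
    rw [h3, h6, h4, show av V F (s * t) = 0 from mn_zero h2, show av V F 1 = 0 from mn_zero fun v hv => by
      rw [one_mul, h1 v hv], add_comm]
  rw [mn_sub hU, ← mn_const P (mn U F)]
  refine mn_congr fun x hx => ?_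
  rcases hP x hx with h6 | ⟨u, hu, u', hu', rfl⟩
  · exact mn_left h6 F
  · rw [← h5, ← mn_right hu fun y => F (s * y), ← mn_left hu' fun y => F (s * (y * u))]
    refine mn_congr fun y hy => ?_
    rw [← hF _ (P.mul_mem hs (hU (U.mul_mem (U.mul_mem hu' hy) hu))) u (hU hu)]
    congr 1
    group

end Cfsg.Agent.MK.Sp2.B
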