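import Cfsg.Agent.MK.Sp2.BRoot
import Cfsg.Agent.ODD.C2.SpC

/-!
# MK, `Sp_{2n}(2)`: block triangular matrices (helper43)

* `en A p q` : the entries by positions;  `Tr A` : block triangular matrices with a symplectic middle block;
* `Tr.mul`, `sup_mul`, `ph_mul`, `sn_mul` : the additive functions on them;
* `en_x`, `tr_x`, `tr_n` : the root elements and the long reflection.
-/

set_option autoImplicit false
set_option maxHeartbeats 400000
set_option linter.unusedVariables false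

namespace Cfsg.Agent.MK.Sp2.B

open CoxeterSystem Cfsg Cfsg.Agent.ChevalleyStructure.CoxeterGeom Cfsg.Agent.Tits.Roots Cfsg.Agent.Nodes.TypeC
  Cfsg.Agent.ODD.C2

variable {k : ℕ}

/-- the matrices -/
abbrev Mt (k : ℕ) : Type := Matrix (Fin (k + 2) × Bool) (Fin (k + 2) × Bool) (ZMod 2)

/-- the entries -/
def en (A : Mt k) (p q : ℕ) : ZMod 2 := A (ix k p) (ix k q)

theorem ix_eq {p q : ℕ} (hp : p < 2 * k + 4) (hq : q < 2 * k + 4) : ix k p = ix k q ↔ p = q :=
  ⟨fun e => by rw [← ps_ix hp, e, ps_ix hq], fun e => e ▸ rfl⟩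

theorem en_mul (A B : Mt k) (p q : ℕ) : en (A * B) p q = ∑ r ∈ Finset.range (2 * k + 4), en A p r * en B r q := by
  rw [en, Matrix.mul_apply]
  exact Finset.sum_nbij' ps (ix k) (fun a _ => Finset.mem_range.2 (ps_lt a)) (fun _ _ => Finset.mem_univ _)
    (fun a _ => ix_ps a) (fun r hr => ps_ix (Finset.mem_range.1 hr)) fun a _ => by rw [en, en, ix_ps]

theorem en_one {p q : ℕ} (hp : p < 2 * k + 4) (hq : q < 2 * k + 4) : en (1 : Mt k) p q = if p = q then 1 else 0 := by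
  simp only [en, Matrix.one_apply, ix_eq hp hq]

/-- block triangular with a symplectic middle block -/
structure Tr (A : Mt k) : Prop where
  tri : ∀ p q, q < p → p < 2 * k + 4 → ¬ (p = k + 2 ∧ q = k + 1) → en A p q = 0
  dg : ∀ p, p < 2 * k + 4 → p ≠ k + 1 → p ≠ k + 2 → en A p p = 1
  det : en A (k + 1) (k + 1) * en A (k + 2) (k + 2) + en A (k + 1) (k + 2) * en A (k + 2) (k + 1) = 1
  c2 : en A (k + 1) (k + 3) = en A (k + 1) (k + 1) * en A k (k + 2) + en A (k + 1) (k + 2) * en A k (k + 1)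
  c3 : en A (k + 2) (k + 3) = en A (k + 2) (k + 1) * en A k (k + 2) + en A (k + 2) (k + 2) * en A k (k + 1)

variable {A B : Mt k}

theorem en_sub (a : Tr A) (b : Tr B) {p q : ℕ} (hp : p < 2 * k + 4) (s : Finset ℕ) (h1 : ∀ r ∈ s, r < 2 * k + 4)
    (h2 : ∀ r, r ∉ s → (r < p ∧ ¬ (p = k + 2 ∧ r = k + 1)) ∨ (q < r ∧ ¬ (r = k + 2 ∧ q = k + 1))) :
    en (A * B) p q = ∑ r ∈ s, en A p r * en B r q := by
  rw [en_mul]
  refine (Finset.sum_subset (fun r hr => Finset.mem_range.2 (h1 r hr)) fun r hr h3 => ?_).symm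
  rcases h2 r h3 with h4 | h4
  · rw [a.tri p r h4.1 hp h4.2, zero_mul]
  · rw [b.tri r q h4.1 (Finset.mem_range.1 hr) h4.2, mul_zero]

theorem en_mid (a : Tr A) (b : Tr B) {p q : ℕ} (h1 : k ≤ p) (h2 : p ≤ k + 3) (h3 : q ≤ k + 3) :
    en (A * B) p q = en A p k * en B k q + en A p (k + 1) * en B (k + 1) q + en A p (k + 2) * en B (k + 2) q +
      en A p (k + 3) * en B (k + 3) q := by
  rw [en_sub a b (by omega) {k, k + 1, k + 2, k + 3} (fun r hr => by simp at hr; omega) fun r hr => by simp at hr; omega,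
    Finset.sum_insert (by simp), Finset.sum_insert (by simp), Finset.sum_pair (by simp)]
  ring

theorem sup_mul (a : Tr A) (b : Tr B) {i : ℕ} (hi : i < k) : en (A * B) i (i + 1) = en A i (i + 1) + en B i (i + 1) := by
  rw [en_sub a b (by omega) {i, i + 1} (fun r hr => by simp at hr; omega) fun r hr => by simp at hr; omega,
    Finset.sum_pair (by simp), a.dg i (by omega) (by omega) (by omega), b.dg (i + 1) (by omega) (by omega) (by omega)]
  ring

theorem mid_mul (a : Tr A) (b : Tr B) :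
    en (A * B) k (k + 1) = en B k (k + 1) + en A k (k + 1) * en B (k + 1) (k + 1) + en A k (k + 2) * en B (k + 2) (k + 1) ∧
    en (A * B) k (k + 2) = en B k (k + 2) + en A k (k + 1) * en B (k + 1) (k + 2) + en A k (k + 2) * en B (k + 2) (k + 2) ∧
    en (A * B) k (k + 3) = en B k (k + 3) + en A k (k + 1) * en B (k + 1) (k + 3) + en A k (k + 2) * en B (k + 2) (k + 3) +
      en A k (k + 3) ∧
    (∀ p q, p = k + 1 ∨ p = k + 2 → q = k + 1 ∨ q = k + 2 →
      en (A * B) p q = en A p (k + 1) * en B (k + 1) q + en A p (k + 2) * en B (k + 2) q) ∧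
    ∀ p, p = k + 1 ∨ p = k + 2 →
      en (A * B) p (k + 3) = en A p (k + 1) * en B (k + 1) (k + 3) + en A p (k + 2) * en B (k + 2) (k + 3) + en A p (k + 3) := by
  have h1 := a.dg k (by omega) (by omega) (by omega)
  have h2 := b.dg (k + 3) (by omega) (by omega) (by omega)
  refine ⟨?_, ?_, ?_, fun p q hp hq => ?_, fun p hp => ?_⟩
  · rw [en_mid a b le_rfl (by omega) (by omega), h1, b.tri (k + 3) _ (by omega) (by omega) (by omega)]; ring
  · rw [en_mid a b le_rfl (by omega) (by omega), h1, b.tri (k + 3) _ (by omega) (by omega) (by omega)]; ring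
  · rw [en_mid a b le_rfl (by omega) (by omega), h1, h2]; ring
  · rw [en_mid a b (by omega) (by omega) (by omega), a.tri p k (by omega) (by omega) (by omega),
      b.tri (k + 3) q (by omega) (by omega) (by omega)]; ring
  · rw [en_mid a b (by omega) (by omega) (by omega), a.tri p k (by omega) (by omega) (by omega), h2]; ring

theorem fin_det : ∀ a b c d a' b' c' d' : ZMod 2, a * d + b * c = 1 → a' * d' + b' * c' = 1 →
    (a * a' + b * c') * (c * b' + d * d') + (a * b' + b * d') * (c * a' + d * c') = 1 ∧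
    (a * b' + b * d') + (c * a' + d * c') + (a * b' + b * d') * (c * a' + d * c') + (a * a' + b * c') + (c * b' + d * d') =
      (b + c + b * c + a + d) + (b' + c' + b' * c' + a' + d') := by decide +kernel

theorem fin_col : ∀ a b s u s' u' a' b' c' d' : ZMod 2, a' * d' + b' * c' = 1 →
    a * (a' * u' + b' * s') + b * (c' * u' + d' * s') + (a * u + b * s) =
      (a * a' + b * c') * (u' + s * b' + u * d') + (a * b' + b * d') * (s' + s * a' + u * c') := by decide +kernel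

theorem fin_ph : ∀ w w' s u s' u' a' b' c' d' : ZMod 2, a' * d' + b' * c' = 1 →
    (w' + s * (a' * u' + b' * s') + u * (c' * u' + d' * s') + w) + (s' + s * a' + u * c') + (u' + s * b' + u * d') +
      (s' + s * a' + u * c') * (u' + s * b' + u * d') = (w + s + u + s * u) + (w' + s' + u' + s' * u') := by decide +kernel

theorem Tr.mul (a : Tr A) (b : Tr B) : Tr (A * B) := by
  obtain ⟨h1, h2, -, h4, h5⟩ := mid_mul a b
  refine ⟨fun p q h6 h7 h8 => ?_, fun p h6 h7 h8 => ?_, ?_, ?_, ?_⟩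
  · rw [en_sub a b h7 ∅ (by simp) fun r _ => by omega, Finset.sum_empty]
  · rw [en_sub a b h6 {p} (fun r hr => by simp at hr; omega) fun r hr => by simp at hr; omega, Finset.sum_singleton,
      a.dg p h6 h7 h8, b.dg p h6 h7 h8, mul_one]
  · rw [h4 _ _ (.inl rfl) (.inl rfl), h4 _ _ (.inl rfl) (.inr rfl), h4 _ _ (.inr rfl) (.inl rfl), h4 _ _ (.inr rfl) (.inr rfl)]
    exact (fin_det _ _ _ _ _ _ _ _ a.det b.det).1
  · rw [h1, h2, h4 _ _ (.inl rfl) (.inl rfl), h4 _ _ (.inl rfl) (.inr rfl), h5 _ (.inl rfl), a.c2, b.c2, b.c3]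
    exact fin_col _ _ _ _ _ _ _ _ _ _ b.det
  · rw [h1, h2, h4 _ _ (.inr rfl) (.inl rfl), h4 _ _ (.inr rfl) (.inr rfl), h5 _ (.inr rfl), a.c3, b.c2, b.c3]
    exact fin_col _ _ _ _ _ _ _ _ _ _ b.det

/-- the invariant additive function -/
def ph (A : Mt k) : ZMod 2 := en A k (k + 3) + en A k (k + 1) + en A k (k + 2) + en A k (k + 1) * en A k (k + 2)

/-- the sign of the middle block -/
def sn (A : Mt k) : ZMod 2 := en A (k + 1) (k + 2) + en A (k + 2) (k + 1) + en A (k + 1) (k + 2) * en A (k + 2) (k + 1) +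
  en A (k + 1) (k + 1) + en A (k + 2) (k + 2)

theorem ph_mul (a : Tr A) (b : Tr B) : ph (A * B) = ph A + ph B := by
  obtain ⟨h1, h2, h3, -⟩ := mid_mul a b
  rw [ph, h1, h2, h3, b.c2, b.c3]
  exact fin_ph _ _ _ _ _ _ _ _ _ _ b.det

theorem sn_mul (a : Tr A) (b : Tr B) : sn (A * B) = sn A + sn B := by
  obtain ⟨-, -, -, h4, -⟩ := mid_mul a b
  rw [sn, h4 _ _ (.inl rfl) (.inl rfl), h4 _ _ (.inl rfl) (.inr rfl), h4 _ _ (.inr rfl) (.inl rfl), h4 _ _ (.inr rfl) (.inr rfl)]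
  exact (fin_det _ _ _ _ _ _ _ _ a.det b.det).2

/-- the unitriangular ones -/
def Tu (A : Mt k) : Prop := Tr A ∧ en A (k + 2) (k + 1) = 0

theorem fin_one : ∀ a b d : ZMod 2, a * d + b * 0 = 1 → a = 1 ∧ d = 1 := by decide

theorem Tu.dg (a : Tu A) : en A (k + 1) (k + 1) = 1 ∧ en A (k + 2) (k + 2) = 1 := fin_one _ _ _ (a.2 ▸ a.1.det)

theorem Tu.mul (a : Tu A) (b : Tu B) : Tu (A * B) :=
  ⟨a.1.mul b.1, by rw [(mid_mul a.1 b.1).2.2.2.1 _ _ (.inr rfl) (.inl rfl), a.2, b.2]; ring⟩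

theorem sup_mul' (a : Tu A) (b : Tu B) {i : ℕ} (hi : i < k + 2) :
    en (A * B) i (i + 1) = en A i (i + 1) + en B i (i + 1) := by
  obtain ⟨h1, -, -, h4, -⟩ := mid_mul a.1 b.1
  rcases Nat.lt_trichotomy i k with h | rfl | h
  · exact sup_mul a.1 b.1 h
  · rw [h1, b.dg.1, b.2]; ring
  · obtain rfl : i = k + 1 := by omega
    rw [h4 _ _ (.inl rfl) (.inr rfl), a.dg.1, b.dg.2]; ring

theorem sn_tu (a : Tu A) : sn A = en A (k + 1) (k + 2) := by
  rw [sn, a.2, a.dg.1, a.dg.2]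
  generalize en A (k + 1) (k + 2) = t
  revert t
  decide

theorem st_ix {x : Fin (k + 2) → ℤ} {p q : ℕ} : (mnC (k + 2)).St x (ix k p) (ix k q) ↔ RP x p q := by
  show wt (ix k p) = wt (ix k q) + ee x ↔ _
  rw [RP, wt_ng, ← sub_eq_add_neg, eq_comm, eq_sub_iff_add_eq']

theorem RP.iff {x : Fin (k + 2) → ℤ} {p0 q0 p q : ℕ} (r : RP x p0 q0) (h1 : p0 < q0) (h2 : q0 < 2 * k + 4)
    (hp : p < 2 * k + 4) (hq : q < 2 * k + 4) :
    RP x p q ↔ (p0 = p ∧ q0 = q) ∨ (p0 + q = 2 * k + 3 ∧ q0 + p = 2 * k + 3) :=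
  ⟨fun h => r.eq h h1 h2 ((h.rh_pos hp hq).1 ((r.rh_pos (by omega) h2).2 h1)) hq, by
    rintro (⟨rfl, rfl⟩ | ⟨h3, h4⟩)
    exacts [r, r.bar h3 h4]⟩

open Classical in
theorem en_x {x : Fin (k + 2) → ℤ} (hx : IsRoot (csC (k + 2)) (isCartan (k + 2)) x) (s : ZMod 2) {p q : ℕ}
    (hp : p < 2 * k + 4) (hq : q < 2 * k + 4) :
    en ((mnC (k + 2)).x (ZMod 2) x s : Mt k) p q = (if p = q then 1 else 0) + if RP x p q then s else 0 := by
  rw [en, Mn.x_apply _ hx]
  simp only [ix_eq hp hq, st_ix]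

theorem tu_x {x : Fin (k + 2) → ℤ} (hx : IsRoot (csC (k + 2)) (isCartan (k + 2)) x) (h0 : 0 ≤ x) (s : ZMod 2) :
    Tu ((mnC (k + 2)).x (ZMod 2) x s : Mt k) := by
  obtain ⟨p0, q0, h1, h2, r⟩ := exists_pos_pq hx h0
  have h3 : ∀ p q, q ≤ p → p < 2 * k + 4 → en ((mnC (k + 2)).x (ZMod 2) x s : Mt k) p q = if p = q then 1 else 0 :=
    fun p q h4 h5 => by rw [en_x hx s h5 (by omega), if_neg (c := RP x p q) (by rw [r.iff h1 h2 h5 (by omega)]; omega), add_zero]
  have h4 : ∀ p q, p < q → q < 2 * k + 4 → en ((mnC (k + 2)).x (ZMod 2) x s : Mt k) p q =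
      if (p0 = p ∧ q0 = q) ∨ (p0 + q = 2 * k + 3 ∧ q0 + p = 2 * k + 3) then s else 0 := fun p q h4 h5 => by
    rw [en_x hx s (by omega) h5, if_neg h4.ne, zero_add]
    simp only [r.iff h1 h2 (by omega : p < 2 * k + 4) h5]
  have h5 := h3 (k + 1) (k + 1) le_rfl (by omega)
  have h6 := h3 (k + 2) (k + 2) le_rfl (by omega)
  have h7 := h3 (k + 2) (k + 1) (by omega) (by omega)
  rw [if_pos rfl] at h5 h6
  rw [if_neg (by omega)] at h7
  refine ⟨⟨fun p q h8 h9 _ => by rw [h3 p q h8.le h9, if_neg h8.ne'], fun p h8 _ _ => by rw [h3 p p le_rfl h8, if_pos rfl],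
    by rw [h5, h6, h7]; ring, ?_, ?_⟩, h7⟩
  · rw [h5, h4 _ _ (by omega) (by omega), h4 _ _ (by omega) (by omega), h4 _ _ (by omega) (by omega),
      h4 _ _ (by omega) (by omega)]
    split_ifs <;> first | omega | ring
  · rw [h6, h7, h4 _ _ (by omega) (by omega), h4 k (k + 1) (by omega) (by omega)]
    split_ifs <;> first | omega | ring

theorem sg_ix {p : ℕ} (hp : p < 2 * k + 4) : sg (na k) (ix k p) = ix k (sw k p) := by
  have h1 := congrArg ng (ps_inj (fw_sw (csC (k + 2)) 1 hp))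
  rw [ng_ng, ng_ng, one_mul, pw, pw, H215.WB.homB_simple, H215.WB.cc_gen, map_one, map_one] at h1
  exact h1

theorem tr_n : Tr ((mnC (k + 2)).n (ZMod 2) (isCartan (k + 2)) (na k) : Mt k) := by
  have h1 : ∀ p q, p < 2 * k + 4 → q < 2 * k + 4 →
      en ((mnC (k + 2)).n (ZMod 2) (isCartan (k + 2)) (na k) : Mt k) p q = if p = sw k q then 1 else 0 := fun p q hp hq => by
    rw [en, Mn.n, pm_apply]
    simp only [← ix_eq hp (sw_lt hq), ← sg_ix hq]
    rfl
  have h2 := sw_one k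
  have h3 := sw_two k
  have h4 := sw_of (k := k) (p := k + 3) (by omega)
  refine ⟨fun p q h5 h6 h7 => ?_, fun p h5 h6 h7 => ?_, ?_, ?_, ?_⟩
  · rw [h1 p q h6 (by omega), if_neg (by unfold sw; split_ifs <;> omega)]
  · rw [h1 p p h5 h5, if_pos (sw_of (by omega)).symm]
  all_goals
    repeat rw [h1 _ _ (by omega) (by omega)]
    split_ifs <;> first | omega | ring

theorem tu_one : Tu (1 : Mt k) := by
  refine ⟨⟨fun p q h5 h6 h7 => ?_, fun p h5 h6 h7 => ?_, ?_, ?_, ?_⟩, ?_⟩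
  · rw [en_one h6 (by omega), if_neg h5.ne']
  · rw [en_one h5 h5, if_pos rfl]
  all_goals
    repeat rw [en_one (by omega) (by omega)]
    split_ifs <;> first | omega | ring

end Cfsg.Agent.MK.Sp2.B
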