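import Cfsg.Agent.MK.Sp2.BComb
import Cfsg.Agent.H493.CC.AmbB

/-!
# MK, `Sp_{2n}(2)`: roots as pairs of positions (helper43)

* `ps`, `ix` : signed indices and positions;  `RP x p q` : `x` is the root `e_p - e_q`;
* `SR k y c e` : the support `SP` as a set of roots;
* `fw cs w` : the negative of the signed permutation of `w`;  `fw_bj`, `fw_inj`, `fw_surj`, `RP.act`.
-/

set_option autoImplicit false
set_option maxHeartbeats 400000
set_option linter.unusedVariables false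

namespace Cfsg.Agent.MK.Sp2.B

open CoxeterSystem Cfsg Cfsg.Agent.ChevalleyStructure.CoxeterGeom Cfsg.Agent.Tits.Roots Cfsg.Agent.Nodes.TypeC
  Cfsg.Agent.H215.WB

variable {k : ℕ}

/-- the position of a signed index -/
def ps (a : Fin (k + 2) × Bool) : ℕ := if a.2 then a.1 else 2 * k + 3 - a.1

/-- the signed index of a position -/
def ix (k p : ℕ) : Fin (k + 2) × Bool :=
  if h : p < k + 2 then (⟨p, h⟩, true) else (⟨2 * k + 3 - p, by omega⟩, false)

theorem ps_true (i : Fin (k + 2)) : ps (i, true) = i := rfl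

theorem ps_false (i : Fin (k + 2)) : ps (i, false) = 2 * k + 3 - i := rfl

theorem ps_lt (a : Fin (k + 2) × Bool) : ps a < 2 * k + 4 := by
  obtain ⟨i, _ | _⟩ := a
  · rw [ps_false]; omega
  · rw [ps_true]; omega

theorem ps_ng (a : Fin (k + 2) × Bool) : ps (ng a) + ps a = 2 * k + 3 := by
  obtain ⟨i, _ | _⟩ := a
  · show ps (i, true) + ps (i, false) = _
    rw [ps_false, ps_true]; omega
  · show ps (i, false) + ps (i, true) = _
    rw [ps_false, ps_true]; omega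

theorem ps_inj {a b : Fin (k + 2) × Bool} (h : ps a = ps b) : a = b := by
  obtain ⟨i, _ | _⟩ := a <;> obtain ⟨j, _ | _⟩ := b <;> simp only [ps_true, ps_false] at h
  · rw [show i = j from Fin.ext (by omega)]
  · omega
  · omega
  · rw [show i = j from Fin.ext h]

theorem ps_ix {p : ℕ} (hp : p < 2 * k + 4) : ps (ix k p) = p := by
  unfold ix
  split_ifs with h
  · rfl
  · rw [ps_false]
    show 2 * k + 3 - (2 * k + 3 - p) = p
    omega

theorem ix_ps (a : Fin (k + 2) × Bool) : ix k (ps a) = a := ps_inj (ps_ix (ps_lt a))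

theorem ix_bar {p q : ℕ} (h : p + q = 2 * k + 3) : ix k p = ng (ix k q) := by
  have h1 := ps_ng (ix k q)
  rw [ps_ix (by omega)] at h1
  exact ps_inj (by rw [ps_ix (by omega)]; omega)

/-- `x = e_p - e_q` -/
def RP (x : Fin (k + 2) → ℤ) (p q : ℕ) : Prop := ee x = wt (ix k p) + wt (ng (ix k q))

theorem ok_ix {p q : ℕ} (hp : p < 2 * k + 4) (hq : q < 2 * k + 4) (h : p ≠ q) : Ok (ix k p) (ng (ix k q)) := by
  by_cases h1 : (ix k p).1 = (ix k q).1
  · right
    have h2 : ix k p ≠ ix k q := fun e => h (by rw [← ps_ix hp, e, ps_ix hq])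
    generalize ix k p = a at h1 h2
    generalize ix k q = b at h1 h2
    obtain ⟨i, s⟩ := a
    obtain ⟨j, t⟩ := b
    obtain rfl : i = j := h1
    cases s <;> cases t <;> first | rfl | exact absurd rfl h2
  · exact Or.inl h1

theorem RP.unique {x y : Fin (k + 2) → ℤ} {p q : ℕ} (h : RP x p q) (h' : RP y p q) : x = y :=
  ee_injective (h.trans h'.symm)

theorem RP.bar {x : Fin (k + 2) → ℤ} {p q p' q' : ℕ} (h : RP x p q) (h1 : p + q' = 2 * k + 3) (h2 : q + p' = 2 * k + 3) :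
    RP x p' q' := by
  rw [RP, h, ix_bar h1, ix_bar h2, ng_ng]
  exact add_comm _ _

theorem RP.eq {x : Fin (k + 2) → ℤ} {p q p' q' : ℕ} (h : RP x p q) (h' : RP x p' q') (hp : p < q) (hq : q < 2 * k + 4)
    (hp' : p' < q') (hq' : q' < 2 * k + 4) : (p = p' ∧ q = q') ∨ (p + q' = 2 * k + 3 ∧ q + p' = 2 * k + 3) := by
  have h1 := ps_ng (ix k q)
  have h2 := ps_ng (ix k q')
  rw [ps_ix hq] at h1
  rw [ps_ix hq'] at h2
  rcases wt_add_eq (ok_ix (by omega) hq hp.ne) (ok_ix (by omega) hq' hp'.ne) (h.symm.trans h') with ⟨e1, e2⟩ | ⟨e1, e2⟩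
  · have e3 := congrArg ps e1
    have e4 := congrArg ps e2
    rw [ps_ix (by omega), ps_ix (by omega)] at e3
    omega
  · have e3 := congrArg ps e1
    have e4 := congrArg ps e2
    rw [ps_ix (by omega)] at e3
    rw [ps_ix (p := p') (by omega)] at e4
    omega

theorem RP.add {x y : Fin (k + 2) → ℤ} {p q r : ℕ} (h : RP x p q) (h' : RP y q r) : RP (x + y) p r := by
  rw [RP, ee_add, h, h', wt_ng (ix k q)]
  abel

theorem RP.neg {x : Fin (k + 2) → ℤ} {p q : ℕ} (h : RP x p q) : RP (-x) q p := by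
  rw [RP, ee_neg, h, wt_ng, wt_ng]
  abel

theorem rp_sr (i : Fin (k + 2)) : RP (sr i) i (i + 1) := by
  rw [RP, ee_sr, bt, show ix k i = (i, true) from ix_ps (i, true)]
  congr 2
  unfold nx
  split_ifs with h
  · exact congrArg ng (ix_ps ((⟨i + 1, h⟩, true) : Fin (k + 2) × Bool)).symm
  · rw [← ix_bar (p := i) (by omega)]
    exact (ix_ps (i, true)).symm

/-- a linear form which is positive on the positive roots -/
def rh (v : Fin (k + 2) → ℤ) : ℤ := ∑ i, v i * (k + 2 - i)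

theorem rh_add (u v : Fin (k + 2) → ℤ) : rh (u + v) = rh u + rh v := by
  simp only [rh, Pi.add_apply, add_mul, Finset.sum_add_distrib]

theorem rh_wt (a : Fin (k + 2) × Bool) :
    rh (wt a) = if ps a < k + 2 then (k : ℤ) + 2 - ps a else (k : ℤ) + 1 - ps a := by
  rw [rh, Finset.sum_eq_single a.1 (fun b _ hb => by rw [wt_apply, if_neg hb, zero_mul]) (by simp), wt_apply, if_pos rfl]
  obtain ⟨i, _ | _⟩ := a
  · have := i.2
    rw [ps_false, if_neg (by omega : ¬ 2 * k + 3 - (i : ℕ) < k + 2)]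
    simp only [Bool.false_eq_true, if_false]
    omega
  · rw [ps_true, if_pos i.2]
    simp

theorem RP.rh_pos {x : Fin (k + 2) → ℤ} {p q : ℕ} (h : RP x p q) (hp : p < 2 * k + 4) (hq : q < 2 * k + 4) :
    0 < rh (ee x) ↔ p < q := by
  have h1 := ps_ng (ix k q)
  rw [ps_ix hq] at h1
  rw [h, rh_add, rh_wt, rh_wt, ps_ix hp]
  split_ifs <;> omega

theorem rh_nonneg {x : Fin (k + 2) → ℤ} (h : 0 ≤ x) : 0 ≤ rh (ee x) := by
  have h1 : rh (ee x) = ∑ j, x j * rh (bt j) := by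
    simp only [rh, ee, Finset.sum_apply, Pi.smul_apply, smul_eq_mul, Finset.sum_mul, Finset.mul_sum, mul_assoc]
    exact Finset.sum_comm
  rw [h1]
  refine Finset.sum_nonneg fun j _ => mul_nonneg (h j) ?_
  rw [← ee_sr]
  exact (((rp_sr j).rh_pos (by omega) (by omega)).2 (by omega)).le

theorem sp_bar {y c e p q p' q' : ℕ} (h1 : p + q' = 2 * k + 3) (h2 : q + p' = 2 * k + 3) (h : SP k y c e p q) :
    SP k y c e p' q' := by
  unfold SP at h ⊢
  omega

/-- the support as a set of roots -/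
def SR (k y c e : ℕ) : Set (Fin (k + 2) → ℤ) := {x | ∃ p q, p < q ∧ q < 2 * k + 4 ∧ RP x p q ∧ SP k y c e p q}

theorem RP.mem {x : Fin (k + 2) → ℤ} {p q y c e : ℕ} (h : RP x p q) (hp : p < q) (hq : q < 2 * k + 4) :
    x ∈ SR k y c e ↔ SP k y c e p q := by
  refine ⟨fun ⟨p', q', h1, h2, h3, h4⟩ => ?_, fun h1 => ⟨p, q, hp, hq, h, h1⟩⟩
  rcases h3.eq h h1 h2 hp hq with ⟨rfl, rfl⟩ | ⟨h5, h6⟩
  · exact h4
  · exact sp_bar h5 h6 h4

theorem RP.eq_iff {x y : Fin (k + 2) → ℤ} {p q p' q' : ℕ} (h : RP x p q) (h' : RP y p' q') (hp : p < q)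
    (hq : q < 2 * k + 4) (hp' : p' < q') (hq' : q' < 2 * k + 4) :
    x = y ↔ (p = p' ∧ q = q') ∨ (p + q' = 2 * k + 3 ∧ q + p' = 2 * k + 3) := by
  refine ⟨fun e => h.eq (e ▸ h') hp hq hp' hq', ?_⟩
  rintro (⟨rfl, rfl⟩ | ⟨h1, h2⟩)
  · exact h.unique h'
  · exact (h.bar h1 h2).unique h'

/-- the long node -/
abbrev na (k : ℕ) : Fin (k + 2) := Fin.last (k + 1)

/-- the last short node -/
abbrev nb (k : ℕ) : Fin (k + 2) := (Fin.last k).castSucc

theorem rp_a : RP (sr (na k)) (k + 1) (k + 2) := rp_sr (na k)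

theorem rp_b : RP (sr (nb k)) k (k + 1) := rp_sr (nb k)

theorem rp_ab : RP (sr (na k) + sr (nb k)) k (k + 2) := by
  rw [add_comm]
  exact rp_b.add rp_a

theorem rp_abb : RP (sr (na k) + sr (nb k) + sr (nb k)) k (k + 3) := rp_ab.add (rp_b.bar (by omega) (by omega))

variable {W : Type*} [Group W] (cs : CoxeterSystem (CoxeterMatrix.B (k + 2)) W)

theorem exists_rp_root {p q : ℕ} (hp : p < 2 * k + 4) (hq : q < 2 * k + 4) (h : p ≠ q) :
    ∃ x, IsRoot cs (isCartan (k + 2)) x ∧ RP x p q := rt_of_ok (ok_ix hp hq h)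

theorem RP.isRoot {x : Fin (k + 2) → ℤ} {p q : ℕ} (h : RP x p q) (hp : p < 2 * k + 4) (hq : q < 2 * k + 4) (hpq : p ≠ q) :
    IsRoot cs (isCartan (k + 2)) x := by
  obtain ⟨y, h1, h2⟩ := exists_rp_root cs hp hq hpq
  rwa [h.unique h2]

variable {cs}

theorem exists_pq {x : Fin (k + 2) → ℤ} (hx : IsRoot cs (isCartan (k + 2)) x) :
    ∃ p q, p < 2 * k + 4 ∧ q < 2 * k + 4 ∧ p ≠ q ∧ RP x p q := by
  obtain ⟨a, b, h1, h2⟩ := exists_of_isRoot cs hx
  refine ⟨ps a, ps (ng b), ps_lt _, ps_lt _, fun e => ?_, by rw [RP, ix_ps, ix_ps, ng_ng, h2]⟩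
  obtain rfl := ps_inj e
  rcases h1 with h1 | h1
  · exact h1 rfl
  · have := ps_ng b
    rw [h1] at this
    omega

theorem RP.nonneg {x : Fin (k + 2) → ℤ} (hx : IsRoot cs (isCartan (k + 2)) x) {p q : ℕ} (h : RP x p q)
    (hp : p < 2 * k + 4) (hq : q < 2 * k + 4) (hpq : p ≠ q) : 0 ≤ x ↔ p < q := by
  have h1 : ∀ {x : Fin (k + 2) → ℤ} {p q : ℕ}, RP x p q → p < 2 * k + 4 → q < 2 * k + 4 → 0 ≤ x → ¬ q < p := by
    intro x p q h hp hq h0 h2
    have h3 := (h.neg.rh_pos hq hp).2 h2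
    have h4 := rh_nonneg h0
    have h5 := rh_add (ee x) (ee (-x))
    rw [ee_neg, add_neg_cancel, ← ee_neg, show rh (0 : Fin (k + 2) → ℤ) = 0 by simp [rh]] at h5
    omega
  refine ⟨fun h0 => by have := h1 h hp hq h0; omega, fun h2 => ?_⟩
  rcases hx.pos_or_neg with h3 | h3
  · exact h3
  · exact absurd h2 (h1 h.neg hq hp (neg_nonneg.2 h3))

theorem exists_pos_pq {x : Fin (k + 2) → ℤ} (hx : IsRoot cs (isCartan (k + 2)) x) (h0 : 0 ≤ x) :
    ∃ p q, p < q ∧ q < 2 * k + 4 ∧ RP x p q := by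
  obtain ⟨p, q, h1, h2, h3, h4⟩ := exists_pq hx
  exact ⟨p, q, (h4.nonneg hx h1 h2 h3).1 h0, h2, h4⟩

variable (cs)

/-- the signed permutation -/
noncomputable def pw (w : W) : Equiv.Perm (Fin (k + 2) × Bool) := cc (homB cs w)

theorem pw_mul (v w : W) (a : Fin (k + 2) × Bool) : pw cs (v * w) a = pw cs v (pw cs w a) := by
  rw [pw, map_mul, map_mul]
  rfl

theorem pw_ng (w : W) (a : Fin (k + 2) × Bool) : pw cs w (ng a) = ng (pw cs w a) := H493.CC.cc_ng _ a

theorem pw_inj {v w : W} (h : ∀ a, pw cs v a = pw cs w a) : v = w := homB_injective cs (cc_injective (Equiv.ext h))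

/-- the negative of the signed permutation, on the positions -/
noncomputable def fw (w : W) (p : ℕ) : ℕ := ps (ng (pw cs w (ix k p)))

theorem ix_fw (w : W) (p : ℕ) : ix k (fw cs w p) = ng (pw cs w (ix k p)) := ix_ps _

theorem fw_bj (w : W) : Bj k (fw cs w) where
  lt p _ := ps_lt _
  inj p q hp hq h := by
    have h1 := congrArg ng (ps_inj h)
    rw [ng_ng, ng_ng] at h1
    rw [← ps_ix hp, (pw cs w).injective h1, ps_ix hq]
  surj v hv := ⟨ps ((pw cs w).symm (ng (ix k v))), ps_lt _, by rw [fw, ix_ps, Equiv.apply_symm_apply, ng_ng, ps_ix hv]⟩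
  sym p q h := by
    rw [fw, fw, ix_bar h, pw_ng]
    exact ps_ng _

theorem fw_inj {v w : W} (h : ∀ p, p < 2 * k + 4 → fw cs v p = fw cs w p) : v = w := pw_inj cs fun a => by
  have h1 := congrArg ng (ps_inj (h _ (ps_lt a)))
  rwa [ng_ng, ng_ng, ix_ps] at h1

theorem fw_surj {f : ℕ → ℕ} (B : Bj k f) : ∃ w, ∀ p, p < 2 * k + 4 → fw cs w p = f p := by
  have h1 : Function.Injective fun a : Fin (k + 2) × Bool => ng (ix k (f (ps a))) := fun a b e => by
    have h2 := congrArg (fun c => ps (ng c)) e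
    simp only [ng_ng] at h2
    rw [ps_ix (B.lt _ (ps_lt a)), ps_ix (B.lt _ (ps_lt b))] at h2
    exact ps_inj (B.inj _ _ (ps_lt a) (ps_lt b) h2)
  obtain ⟨g, hg⟩ := H493.CC.exists_cc (Equiv.ofBijective _ (Finite.injective_iff_bijective.1 h1)) fun a =>
    congrArg ng (ix_bar (B.sym _ _ (ps_ng a)))
  obtain ⟨w, rfl⟩ := homB_surjective cs g
  refine ⟨w, fun p hp => ?_⟩
  rw [fw, pw, hg, Equiv.ofBijective_apply, ng_ng, ps_ix hp, ps_ix (B.lt p hp)]

theorem RP.act {x : Fin (k + 2) → ℤ} {p q : ℕ} (h : RP x p q) (w : W) :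
    RP (rep cs (isCartan (k + 2)) w x) (fw cs w q) (fw cs w p) := by
  rw [RP, ee_act cs w x _ _ h, ix_fw, ix_fw, ng_ng, ← pw_ng]
  exact add_comm _ _

theorem fw_sw (w : W) {p : ℕ} (hp : p < 2 * k + 4) : fw cs (w * cs.simple (na k)) p = fw cs w (sw k p) := by
  have h1 : ¬ ((na k : Fin (k + 2)) : ℕ) + 1 < k + 2 := by simp
  rw [fw, fw, pw_mul]
  congr 3
  rw [pw, homB_simple, cc_gen, P_apply]
  by_cases h2 : p = k + 1
  · rw [h2, sw_one, show ix k (k + 1) = (na k, true) from ix_ps (na k, true), sg_last h1,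
      ix_bar (p := k + 2) (q := k + 1) (by omega), show ix k (k + 1) = (na k, true) from ix_ps (na k, true)]
    rfl
  by_cases h3 : p = k + 2
  · rw [h3, sw_two, ix_bar (p := k + 2) (q := k + 1) (by omega), sg_ng,
      show ix k (k + 1) = (na k, true) from ix_ps (na k, true), sg_last h1]
    rfl
  rw [sw_of (by omega)]
  have h4 := ps_ix hp
  generalize ix k p = a at h4
  obtain ⟨i, s⟩ := a
  have h5 := i.2
  refine sg_of_ne (fun e => ?_) (by simp; omega)
  obtain rfl : i = na k := e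
  cases s
  · rw [ps_false] at h4
    simp at h4
    omega
  · exact h2 h4.symm

theorem sq_of_fw {w : W} (h : ∀ p, p < 2 * k + 4 → fw cs w (fw cs w p) = p) : w * w = 1 := pw_inj cs fun a => by
  have h1 := h _ (ps_lt a)
  rw [fw, ix_fw, pw_ng, ng_ng, ix_ps, ← pw_mul] at h1
  rw [ps_inj h1, pw, map_one, map_one]
  rfl

theorem Cm.congr {y c e y' c' e' : ℕ} {f g : ℕ → ℕ} (C : Cm k y c e y' c' e' f) (h : ∀ p, p < 2 * k + 4 → g p = f p) :
    Cm k y c e y' c' e' g := fun p q h1 h2 => by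
  rw [h p (by omega), h q h2]
  exact C p q h1 h2

end Cfsg.Agent.MK.Sp2.B
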