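import Cfsg.Agent.MK.Sp2.BRgd
import Cfsg.Agent.MK.Sp2.BRoot

/-!
# MK, `Sp_{2n}(2)`: the multiplicities in `Γ + Gc` (helper43)

`Ex` : two characters of `U` extend to the parabolic subgroup of the long node;  `mf : MF cs h X a b ψ η`.
-/

set_option autoImplicit false
set_option maxHeartbeats 400000
set_option linter.unusedSectionVars false

open scoped ComplexConjugate

namespace Cfsg.Agent.MK.Sp2.B

open CoxeterSystem Cfsg Cfsg.Agent.ChevalleyStructure.CoxeterGeom Cfsg.Agent.Tits.Roots Cfsg.Agent.Tits.Core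
  Cfsg.Agent.Nodes.Reps Cfsg.Agent.Nodes.BNOf Cfsg.Agent.Nodes.StabComb Cfsg.Agent.Nodes.Bruhat Cfsg.Agent.Nodes.LeviDec
  Cfsg.Agent.Nodes.TypeC Cfsg.Agent.Characters Cfsg.Agent.Characters.Core

variable {k : ℕ} {W Y : Type} [Group W] [Finite W] [Group Y] [Fintype Y]
  {cs : CoxeterSystem (CoxeterMatrix.B (k + 2)) W} {n : Fin (k + 2) → Y} {X : (Fin (k + 2) → ℤ) → Subgroup Y}
  {ψ : Fin (k + 2) → Y → ℂ} {η β σ l l' : Y → ℂ} {y c e y' c' e' : ℕ}

/-- the character with the support `SR k 1 0 0` -/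
noncomputable def lz (ψ : Fin (k + 2) → Y → ℂ) (η : Y → ℂ) (u : Y) : ℂ :=
  η u * ∏ i ∈ (Finset.univ.erase (na k)).erase (nb k), ψ i u

variable (cs n X ψ η β σ) in
/-- the extensions to the parabolic subgroup -/
structure Ex (Q : Submonoid Y) : Prop where
  le : ∀ u ∈ UU cs (isCartan (k + 2)) X, u ∈ Q
  mem : n (na k) ∈ Q
  bmul : ∀ u ∈ Q, ∀ v ∈ Q, β (u * v) = β u * β v
  smul : ∀ u ∈ Q, ∀ v ∈ Q, σ (u * v) = σ u * σ v
  bU : ∀ u ∈ UU cs (isCartan (k + 2)) X, β u = lz ψ η u * ψ (nb k) u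
  sU : ∀ u ∈ UU cs (isCartan (k + 2)) X, σ u = ψ (na k) u

theorem RP.eq_sr {x : Fin (k + 2) → ℤ} {p q : ℕ} (r : RP x p q) (hp : p < q) (hq : q < 2 * k + 4) (i : Fin (k + 2)) :
    x = sr i ↔ (p = i ∧ q = i + 1) ∨ (p + (i + 1) = 2 * k + 3 ∧ q + i = 2 * k + 3) :=
  r.eq_iff (rp_sr i) hp hq (by omega) (by omega)

section Sg

variable (D : Dat cs (isCartan (k + 2)) X (na k) (nb k) ψ η)
include D

theorem sg_gam : Sg cs (isCartan (k + 2)) X (SR k 0 1 1) (phB ψ) := sg_prod D.psi Finset.univ fun x hx => by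
  obtain ⟨p, q, h1, h2, r⟩ := exists_pos_pq hx.1 hx.2
  rw [r.mem h1 h2, spG]
  simp only [r.eq_sr h1 h2, Finset.mem_univ, true_and]
  refine ⟨fun h3 => ?_, fun ⟨i, h3⟩ => by omega⟩
  by_cases h4 : p < k + 2
  · exact ⟨⟨p, h4⟩, Or.inl ⟨rfl, h3⟩⟩
  · exact ⟨⟨2 * k + 2 - p, by omega⟩, Or.inr (by simp only; omega)⟩

theorem sg_00 : Sg cs (isCartan (k + 2)) X (SR k 1 0 0) (lz ψ η) := by
  refine sg_times D.eta (sg_prod (S := SR k 0 0 0) D.psi _ fun x hx => ?_) fun x hx => ?_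
  · obtain ⟨p, q, h1, h2, r⟩ := exists_pos_pq hx.1 hx.2
    rw [r.mem h1 h2]
    simp only [r.eq_sr h1 h2, Finset.mem_erase, Finset.mem_univ, and_true, ne_eq, Fin.ext_iff, Fin.val_last,
      Fin.val_castSucc]
    refine ⟨fun h3 => ?_, fun ⟨i, h3⟩ => by unfold SP; omega⟩
    unfold SP at h3
    by_cases h4 : p < k
    · exact ⟨⟨p, by omega⟩, by simp only [true_and]; omega⟩
    · exact ⟨⟨2 * k + 2 - p, by omega⟩, by simp only; omega⟩
  · obtain ⟨p, q, h1, h2, r⟩ := exists_pos_pq hx.1 hx.2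
    rw [r.mem h1 h2, r.mem h1 h2, Set.mem_insert_iff, Set.mem_singleton_iff, r.eq_iff rp_ab h1 h2 (by omega) (by omega),
      r.eq_iff rp_abb h1 h2 (by omega) (by omega)]
    unfold SP
    omega

theorem sg_a (s : Sg cs (isCartan (k + 2)) X (SR k y c 0) l) :
    Sg cs (isCartan (k + 2)) X (SR k y c 1) fun u => l u * ψ (na k) u := sg_times s (D.psi _) fun x hx => by
  obtain ⟨p, q, h1, h2, r⟩ := exists_pos_pq hx.1 hx.2
  rw [r.mem h1 h2, r.mem h1 h2, Set.mem_singleton_iff, r.eq_iff rp_a h1 h2 (by omega) (by omega)]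
  unfold SP
  omega

theorem sg_10 : Sg cs (isCartan (k + 2)) X (SR k 1 1 0) fun u => lz ψ η u * ψ (nb k) u :=
  sg_times (sg_00 D) (D.psi _) fun x hx => by
    obtain ⟨p, q, h1, h2, r⟩ := exists_pos_pq hx.1 hx.2
    rw [r.mem h1 h2, r.mem h1 h2, Set.mem_singleton_iff, r.eq_iff rp_b h1 h2 (by omega) (by omega)]
    unfold SP
    omega

end Sg

theorem sg_congr {S : Set (Fin (k + 2) → ℤ)} (s : Sg cs (isCartan (k + 2)) X S l)
    (h : ∀ u ∈ UU cs (isCartan (k + 2)) X, l' u = l u) : Sg cs (isCartan (k + 2)) X S l' where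
  one := by rw [h 1 (one_mem _), s.one]
  mul u hu v hv := by rw [h u hu, h v hv, h _ (mul_mem hu hv), s.mul u hu v hv]
  neg x hx h1 u hu h2 := by rw [h u (X_le_UU hx.1 hx.2 hu), s.neg x hx h1 u hu h2]
  pos x hx h1 u hu := by rw [h u (X_le_UU hx.1 hx.2 hu), s.pos x hx h1 u hu]

theorem min_iff (w : W) : 0 ≤ rep cs (isCartan (k + 2)) w (sr (na k)) ↔ fw cs w (k + 2) < fw cs w (k + 1) :=
  (rp_a.act cs w).nonneg ((isRoot_sr cs _ _).act w) (ps_lt _) (ps_lt _) fun e => by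
    have := (fw_bj cs w).inj _ _ (by omega) (by omega) e
    omega

variable (R : RGD cs (isCartan (k + 2)) 2 ⊥ n X)
include R

theorem cp_cm (s : Sg cs (isCartan (k + 2)) X (SR k y c e) l) (s' : Sg cs (isCartan (k + 2)) X (SR k y' c' e') l') (w : W) :
    Cp (UU cs (isCartan (k + 2)) X) (UU cs (isCartan (k + 2)) X) l l' (nw R w) ↔ Cm k y c e y' c' e' (fw cs w⁻¹) := by
  rw [cp_iff R s s']
  have B := fw_bj cs w⁻¹
  constructor
  · intro h p q h1 h2 h3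
    obtain ⟨x, hx, r⟩ := exists_rp_root cs (p := p) (q := q) (by omega) h2 h1.ne
    have r' := r.act cs w⁻¹
    rw [← r.mem h1 h2, ← r'.mem h3 (ps_lt _)]
    exact h x hx ((r.nonneg hx (by omega) h2 h1.ne).2 h1) ((r'.nonneg (hx.act _) (ps_lt _) (ps_lt _) h3.ne).2 h3)
  · intro h x hx h0 h4
    obtain ⟨p, q, h1, h2, r⟩ := exists_pos_pq hx h0
    have r' := r.act cs w⁻¹
    have h3 := (r'.nonneg (hx.act _) (ps_lt _) (ps_lt _) fun e => by
      have := B.inj _ _ h2 (by omega) e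
      omega).1 h4
    rw [r.mem h1 h2, r'.mem h3 (ps_lt _)]
    exact h p q h1 h2 h3

theorem cpP {w : W} (hw : 0 ≤ rep cs (isCartan (k + 2)) w⁻¹ (sr (na k))) :
    Cp (PJ cs (isCartan (k + 2)) ⊥ X {na k}) (UU cs (isCartan (k + 2)) X) l l' (nw R w) ↔
      Cp (UU cs (isCartan (k + 2)) X) (UU cs (isCartan (k + 2)) X) l l' (nw R w) :=
  ⟨fun h q hq => h q (U_le_P _ hq), fun h q hq hq' => h q (mem_U_of_P R hw hq hq') hq'⟩

theorem nw_inv_eq {w : W} (h : ∀ p, p < 2 * k + 4 → fw cs w⁻¹ (fw cs w⁻¹ p) = p) : (nw R w)⁻¹ = 1 * nw R w * 1 := by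
  have h1 := sq_of_fw cs h
  rw [mul_inv_eq_one] at h1
  rw [← nw_inv, h1, one_mul, mul_one]

variable (hG : GG cs (isCartan (k + 2)) ⊥ X = ⊤)
include hG

theorem mf_U (s : Sg cs (isCartan (k + 2)) X (SR k 1 0 e) l) (χ : Y → ℂ) (hχ : IsIrrCharacter Y χ) :
    classInner (ii (UU cs (isCartan (k + 2)) X) l) χ = 0 ∨ classInner (ii (UU cs (isCartan (k + 2)) X) l) χ = 1 :=
  mf_sn (sn_of_sg s) (fun g => by
    obtain ⟨w, a, ha, b, hb, rfl⟩ := cov R hG g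
    exact ⟨a, ha, _, b, hb, rfl, fun h => ⟨1, one_mem _, nw_inv_eq R (inv_one (fw_bj cs _) ((cp_cm R s s w).1 h))⟩⟩) hχ

theorem mf_P (s : Sg cs (isCartan (k + 2)) X (SR k 1 1 e) l) (s' : Sn (PJ cs (isCartan (k + 2)) ⊥ X {na k}) l) (χ : Y → ℂ)
    (hχ : IsIrrCharacter Y χ) : classInner (ii (PJ cs (isCartan (k + 2)) ⊥ X {na k}) l) χ = 0 ∨
      classInner (ii (PJ cs (isCartan (k + 2)) ⊥ X {na k}) l) χ = 1 :=
  mf_sn s' (fun g => by
    obtain ⟨w, a, ha, b, hb, rfl⟩ := cov R hG g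
    refine ⟨a, U_le_P _ ha, _, b, U_le_P _ hb, rfl, fun h => ?_⟩
    have B := fw_bj cs w⁻¹
    rcases inv_two B ((cp_cm R s s w).1 fun q hq hq' => h q (U_le_P _ hq) (U_le_P _ hq')) with h1 | h1
    · exact ⟨1, one_mem _, nw_inv_eq R h1⟩
    · have h2 := sq_of_fw cs (w := w⁻¹ * cs.simple (na k)) fun p hp => by
        rw [fw_sw cs _ ((fw_bj cs _).lt p hp), fw_sw cs _ hp]
        exact h1 p hp
      refine ⟨_, n_mem_P R _, ?_⟩
      rw [← nw_inv, ← nw_simple R, ← nw_mul, ← nw_mul]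
      congr 1
      have h3 := eq_inv_of_mul_eq_one_left h2
      rw [mul_inv_rev, inv_inv, inv_simple] at h3
      rw [← h3, mul_assoc, simple_mul_simple_self, mul_one]) hχ

theorem inner_UU (s : Sg cs (isCartan (k + 2)) X (SR k y c e) l) (s' : Sg cs (isCartan (k + 2)) X (SR k y' c' e') l') :
    classInner (ii (UU cs (isCartan (k + 2)) X) l) (ii (UU cs (isCartan (k + 2)) X) l') =
      Nat.card {w : W // Cm k y c e y' c' e' (fw cs w⁻¹)} := by
  rw [inner_cnt (sn_of_sg s) (sn_of_sg s') (nw R) (dis R) (cov R hG),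
    Nat.card_congr (Equiv.subtypeEquivRight (cp_cm R s s'))]

theorem inner_PU (s : Sg cs (isCartan (k + 2)) X (SR k y c e) l) (sP : Sn (PJ cs (isCartan (k + 2)) ⊥ X {na k}) l)
    (s' : Sg cs (isCartan (k + 2)) X (SR k y' c' e') l') :
    classInner (ii (PJ cs (isCartan (k + 2)) ⊥ X {na k}) l) (ii (UU cs (isCartan (k + 2)) X) l') =
      Nat.card {w : {w : W // 0 ≤ rep cs (isCartan (k + 2)) w⁻¹ (sr (na k))} // Cm k y c e y' c' e' (fw cs w.1⁻¹)} := by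
  rw [inner_cnt sP (sn_of_sg s') (fun w : {w : W // 0 ≤ rep cs (isCartan (k + 2)) w⁻¹ (sr (na k))} => nw R w) (disP R _)
    (covP R hG _)]
  exact congrArg Nat.cast (Nat.card_congr (Equiv.subtypeEquivRight
    fun w : {w : W // 0 ≤ rep cs (isCartan (k + 2)) w⁻¹ (sr (na k))} => (cpP R w.2).trans (cp_cm R s s' w.1)))

theorem mf_X (s : Sg cs (isCartan (k + 2)) X (SR k 1 1 e) l) (sP : Sn (PJ cs (isCartan (k + 2)) ⊥ X {na k}) l)
    (s' : Sg cs (isCartan (k + 2)) X (SR k 1 0 e') l') (he : e = 1 ↔ e' ≠ 1) (χ : Y → ℂ) (hχ : IsIrrCharacter Y χ) :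
    classInner (ii (PJ cs (isCartan (k + 2)) ⊥ X {na k}) l + ii (UU cs (isCartan (k + 2)) X) l') χ = 0 ∨
      classInner (ii (PJ cs (isCartan (k + 2)) ⊥ X {na k}) l + ii (UU cs (isCartan (k + 2)) X) l') χ = 1 := by
  refine mf_add (cls_ii _ _) (cls_ii _ _) (mf_P R hG s sP) (mf_U R hG s') ?_ χ hχ
  rw [inner_PU R hG s sP s', Nat.cast_eq_zero, Nat.card_eq_zero]
  exact Or.inl ⟨fun w => cross (fw_bj cs _) w.2 he ((min_iff _).1 w.1.2)⟩

omit R hG in
theorem card_le : Nat.card {w : W // Cm k 0 1 1 0 1 1 (fw cs w⁻¹)} ≤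
    Nat.card {w : {w : W // 0 ≤ rep cs (isCartan (k + 2)) w⁻¹ (sr (na k))} // Cm k 1 1 0 0 1 1 (fw cs w.1⁻¹)} +
      Nat.card {w : W // Cm k 1 0 1 0 1 1 (fw cs w⁻¹)} := by
  rw [← Nat.card_sum]
  have h1 : ∀ w : {w : W // Cm k 0 1 1 0 1 1 (fw cs w⁻¹)},
      ∃ z : {w : {w : W // 0 ≤ rep cs (isCartan (k + 2)) w⁻¹ (sr (na k))} // Cm k 1 1 0 0 1 1 (fw cs w.1⁻¹)} ⊕
        {w : W // Cm k 1 0 1 0 1 1 (fw cs w⁻¹)}, ∀ p, p < 2 * k + 4 → fw cs w.1⁻¹ p =
          Sum.elim (fun v => fw cs v.1.1⁻¹ (sw k p)) (fun v => if fw cs v.1⁻¹ k < fw cs v.1⁻¹ (k + 1) then fw cs v.1⁻¹ p else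
            if p < fw cs v.1⁻¹ (k + 1) ∨ 2 * k + 3 < p + fw cs v.1⁻¹ (k + 1) then fw cs v.1⁻¹ p else 2 * k + 3 - p) z := by
    rintro ⟨w, C⟩
    have B := fw_bj cs w⁻¹
    by_cases h1 : fw cs w⁻¹ k < fw cs w⁻¹ (k + 1)
    · exact ⟨Sum.inr ⟨w, gam_one B C h1⟩, fun p _ => (if_pos h1).symm⟩
    have h2 : fw cs w⁻¹ (k + 1) < fw cs w⁻¹ k := by
      have := B.inj k (k + 1) (by omega) (by omega)
      omega
    by_cases h3 : fw cs w⁻¹ (k + 1) < fw cs w⁻¹ (k + 2)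
    · have h4 : ∀ p, p < 2 * k + 4 → fw cs (cs.simple (na k) * w)⁻¹ p = fw cs w⁻¹ (sw k p) := fun p hp => by
        rw [mul_inv_rev, inv_simple, fw_sw cs _ hp]
      refine ⟨Sum.inl ⟨⟨cs.simple (na k) * w, (min_iff _).2 ?_⟩, (gam_two B C h2 h3).congr h4⟩, fun p hp => ?_⟩
      · rwa [h4 _ (by omega), h4 _ (by omega), sw_one, sw_two]
      · exact ((h4 _ (sw_lt hp)).trans (by rw [sw_sw])).symm
    obtain ⟨g, h4, h5, h6, h7⟩ := gam_three B C h2 (by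
      have := B.inj (k + 1) (k + 2) (by omega) (by omega)
      omega)
    obtain ⟨v, hv⟩ := fw_surj cs h4
    rw [← inv_inv v] at hv
    refine ⟨Sum.inr ⟨v⁻¹, h5.congr hv⟩, fun p hp => ?_⟩
    simp only [Sum.elim_inr]
    rw [hv k (by omega), hv (k + 1) (by omega), hv p hp, if_neg h6.not_gt]
    exact h7 p hp
  choose z hz using h1
  exact Nat.card_le_card_of_injective z fun v w e => Subtype.ext (inv_injective (fw_inj cs fun p hp => by
    rw [hz v p hp, hz w p hp, e]))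

omit hG in
theorem sn_P {Q : Submonoid Y} {S : Set (Fin (k + 2) → ℤ)} (h1 : ∀ u ∈ UU cs (isCartan (k + 2)) X, u ∈ Q) (h2 : n (na k) ∈ Q)
    (h3 : ∀ u ∈ Q, ∀ v ∈ Q, l (u * v) = l u * l v) (s : Sg cs (isCartan (k + 2)) X S l) :
    Sn (PJ cs (isCartan (k + 2)) ⊥ X {na k}) l := by
  have h4 : ∀ g ∈ PJ cs (isCartan (k + 2)) ⊥ X {na k}, g ∈ Q := fun g hg => by
    rcases mem_P R hg with h | ⟨a, ha, b, hb, rfl⟩
    · exact h1 g h
    · exact mul_mem (mul_mem (h1 a ha) h2) (h1 b hb)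
  refine ⟨fun u hu v hv => h3 u (h4 u hu) v (h4 v hv), fun g hg => ?_⟩
  rcases mem_P R hg with h | ⟨a, ha, b, hb, rfl⟩
  · exact (sn_of_sg s).sq g h
  · have h5 := h3 _ h2 _ h2
    rw [n_sq R, s.one] at h5
    rw [h3 _ (mul_mem (h1 a ha) h2) _ (h1 b hb), h3 _ (h1 a ha) _ h2]
    rcases (sn_of_sg s).sq a ha with h6 | h6 <;> rcases (sn_of_sg s).sq b hb with h7 | h7 <;>
      rcases mul_self_eq_one_iff.1 h5.symm with h8 | h8 <;> simp [h6, h7, h8]

/-- **The multiplicities in `Γ + Gc` are `0`, `1`, `-1`.** -/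
theorem mf (D : Dat cs (isCartan (k + 2)) X (na k) (nb k) ψ η) {Q : Submonoid Y} (E : Ex cs n X ψ η β σ Q) :
    MF cs (isCartan (k + 2)) X (na k) (nb k) ψ η := by
  have s1 := sg_gam D
  have s00 := sg_00 D
  have s01 := sg_a D s00
  have s10 := sg_congr (sg_10 D) E.bU
  have sσ := sg_congr (D.psi (na k)) E.sU
  have s11 : Sg cs (isCartan (k + 2)) X (SR k 1 1 1) fun u => β u * σ u :=
    sg_congr (sg_a D s10) fun u hu => by rw [E.sU u hu]
  have p10 := sn_P R E.le E.mem E.bmul s10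
  have pσ := sn_P R E.le E.mem E.smul sσ
  have p11 := p10.times pσ
  have m1 := mf_X R hG s11 p11 s00 (by omega)
  have m2 := mf_X R hG s10 p10 s01 (by omega)
  have hc : ∀ {H K : Subgroup Y} {f g : Y → ℂ}, IsClassFunction Y (ii H f + ii K g) := fun {H K f g} x y => by
    rw [Pi.add_apply, Pi.add_apply, cls_ii H f x y, cls_ii K g x y]
  refine ⟨1, Or.inl rfl, fun χ hχ m hm => mf_of (sn_of_sg s1).isChar hc m1 m2 (eq_of_le (sn_of_sg s1).isChar hc m2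
    (inner_UU R hG s1 s1) (by
      rw [classInner_add_left, inner_PU R hG s10 p10 s1, inner_UU R hG s01 s1, ← Nat.cast_add]) card_le) hχ ?_⟩
  have hk := isIrr_isClassFunction hχ
  have h1 := mn_P R (D.psi (na k)) pσ E.sU (F := fun x => (β x * σ x - β x) * conj (χ x))
    (fun x hx y hy => by beta_reduce; rw [p10.cl x hx y hy, pσ.cl x hx y hy, hk x y]) fun x _ h => by rw [h, mul_one, sub_self, zero_mul]
  have h2 : ∀ (H : Subgroup Y) (f g : Y → ℂ), (mn H fun x => (f x - g x) * conj (χ x)) =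
      (mn H fun x => f x * conj (χ x)) - mn H fun x => g x * conj (χ x) := fun H f g => by
    rw [eq_sub_iff_add_eq, ← mn_add]
    exact mn_congr fun x _ => by ring
  rw [h2] at h1
  rw [hm, classInner_sub_left, classInner_add_left, classInner_add_left, classInner_add_left]
  change classInner (ii _ fun u => phB ψ u + 1 * phC (na k) (nb k) ψ η u) χ = _
  simp only [inner_ii _ _ hk]
  have h3 : (mn (UU cs (isCartan (k + 2)) X) fun x => (phB ψ x + 1 * phC (na k) (nb k) ψ η x) * conj (χ x)) =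
      (mn (UU cs (isCartan (k + 2)) X) fun x => phB ψ x * conj (χ x)) +
      ((mn (UU cs (isCartan (k + 2)) X) fun x => (lz ψ η x - lz ψ η x * ψ (na k) x) * conj (χ x)) +
      mn (UU cs (isCartan (k + 2)) X) fun x => (β x * σ x - β x) * conj (χ x)) := by
    rw [← mn_add, ← mn_add]
    refine mn_congr fun x hx => ?_
    rw [E.bU x hx, E.sU x hx, phC, lz]
    ring
  rw [h3, ← h1, h2]
  ring

end Cfsg.Agent.MK.Sp2.B
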