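import Cfsg.Agent.MK.Sp2.BMf
import Cfsg.Agent.MK.Sp2.BMat
import Cfsg.Agent.ODD.C2.SpE

/-!
# MK, `Sp_{2n}(2)`: the model (helper43)

* `Md ι X` : the root groups are given by the root matrices of the natural module;  `exists_md`;
* `Md.dat`, `Md.ex` : the linear characters;  `sp2_iso`, `psp2_iso` : `Dat` and `MF` for `Sp_{2n}(2)`.
-/

set_option autoImplicit false
set_option maxHeartbeats 400000
set_option linter.unusedSectionVars false

open scoped commutatorElement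

namespace Cfsg.Agent.MK.Sp2.B

open CoxeterSystem Cfsg Cfsg.Agent.ChevalleyStructure.CoxeterGeom Cfsg.Agent.Tits.Roots Cfsg.Agent.Nodes.TypeC
  Cfsg.Agent.Nodes.TypeCForm Cfsg.Agent.Nodes.Reps Cfsg.Agent.Nodes.BNOf Cfsg.Agent.Nodes.Bruhat Cfsg.Agent.Nodes.RGDLib
  Cfsg.Agent.Nodes.Coroot Cfsg.Agent.ODD.C2

variable {k : ℕ} {Y : Type} [Group Y] [Fintype Y] {ι : Y →* GL (Fin (k + 2) × Bool) (ZMod 2)} {n : Fin (k + 2) → Y}
  {X : (Fin (k + 2) → ℤ) → Subgroup Y}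

variable (ι n X) in
/-- the matrix model -/
structure Md : Prop where
  inj : Function.Injective ι
  hn : ∀ i, ι (n i) = (mnC (k + 2)).n (ZMod 2) (isCartan (k + 2)) i
  hX : ∀ a, IsRoot (csC (k + 2)) (isCartan (k + 2)) a → ∀ u, u ∈ X a ↔ ∃ s, (mnC (k + 2)).x (ZMod 2) a s = ι u
  ex : ∀ a, IsRoot (csC (k + 2)) (isCartan (k + 2)) a → ∃ u, ι u = (mnC (k + 2)).x (ZMod 2) a 1

theorem exists_md (hι : Function.Injective ι)
    (hr : ι.range = (mnC (k + 2)).G0 (ZMod 2) (csC (k + 2)) (isCartan (k + 2)) 1) :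
    ∃ n X, RGD (csC (k + 2)) (isCartan (k + 2)) 2 ⊥ n X ∧ GG (csC (k + 2)) (isCartan (k + 2)) ⊥ X = ⊤ ∧ Md ι n X := by
  have R0 := (mnC (k + 2)).rgd (k := ZMod 2) (csC (k + 2)) (isCartan (k + 2)) (e := 1) one_pos
  have hT : ((mnC (k + 2)).τ (ZMod 2)).range ⊓ Mn.lv (Fin (k + 2) × Bool) (ZMod 2) 1 = ⊥ := by
    refine eq_bot_iff.2 ?_
    rintro _ ⟨⟨c, rfl⟩, -⟩
    rw [Subsingleton.elim c 1, map_one]
    exact one_mem _
  rw [hT] at R0
  have hs : ∀ s : ZMod 2, s ^ 2 ^ 1 = s := by decide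
  have h1 : ∀ a, IsRoot (csC (k + 2)) (isCartan (k + 2)) a →
      (mnC (k + 2)).X (ZMod 2) a ⊓ Mn.lv (Fin (k + 2) × Bool) (ZMod 2) 1 ≤ ι.range := fun a ha =>
    hr ▸ RGD.le_Sup (X := fun a => (mnC (k + 2)).X (ZMod 2) a ⊓ Mn.lv (Fin (k + 2) × Bool) (ZMod 2) 1)
      (S := {x | IsRoot (csC (k + 2)) (isCartan (k + 2)) x}) ha
  have h2 : ∀ i, (mnC (k + 2)).n (ZMod 2) (isCartan (k + 2)) i ∈ ι.range := fun i => by
    have h3 := LJ_le_GG (n_mem_LJ R0 (J := Set.univ) (i := i) trivial)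
    rw [GG, bot_sup_eq] at h3
    exact hr ▸ h3
  have R1 := rgd_map_of_injective (rgd_restrict R0 ι.range h1 h2) (MonoidHom.ofInjective hι).symm.toMonoidHom
    (MonoidHom.ofInjective hι).symm.injective
  rw [Subgroup.bot_subgroupOf, Subgroup.map_bot] at R1
  have h3 : ∀ (H : Subgroup (GL (Fin (k + 2) × Bool) (ZMod 2))) (u : Y),
      u ∈ (H.subgroupOf ι.range).map (MonoidHom.ofInjective hι).symm.toMonoidHom ↔ ι u ∈ H := fun H u => by
    rw [Subgroup.mem_map_equiv, Subgroup.mem_subgroupOf]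
    rfl
  refine ⟨_, _, R1, eq_top_iff.2 fun g _ => Subgroup.mem_sup_right ?_, hι, fun i => MonoidHom.apply_ofInjective_symm hι _,
    fun a ha u => ?_, fun a ha => h1 a ha (((mnC (k + 2)).mem_Xe ha).2 ⟨1, hs 1, rfl⟩)⟩
  · have h4 : ι g ∈ (mnC (k + 2)).G0 (ZMod 2) (csC (k + 2)) (isCartan (k + 2)) 1 := hr ▸ ⟨g, rfl⟩
    obtain ⟨u, h5, h6⟩ := sup_ind (C := fun z => ∃ u ∈ RGD.Sup (fun x => (((mnC (k + 2)).X (ZMod 2) x ⊓
        Mn.lv (Fin (k + 2) × Bool) (ZMod 2) 1).subgroupOf ι.range).map (MonoidHom.ofInjective hι).symm.toMonoidHom)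
        {x | IsRoot (csC (k + 2)) (isCartan (k + 2)) x}, ι u = z) h4 (fun a ha z hz => by
      obtain ⟨u, rfl⟩ := h1 a ha hz
      exact ⟨u, RGD.le_Sup ha ((h3 _ u).2 hz), rfl⟩) ⟨1, one_mem _, map_one ι⟩ (by
      rintro _ _ ⟨u, hu, rfl⟩ ⟨v, hv, rfl⟩
      exact ⟨u * v, mul_mem hu hv, map_mul ι u v⟩)
    exact hι h6 ▸ h5
  · rw [h3, (mnC (k + 2)).mem_Xe ha]
    exact exists_congr fun s => and_iff_right (hs s)

/-- the sign -/
noncomputable def sg2 (t : ZMod 2) : ℂ := if t = 0 then 1 else -1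

theorem sg2_zero : sg2 0 = 1 := if_pos rfl

theorem sg2_one : sg2 1 = -1 := if_neg (by decide)

theorem two_cases : ∀ t : ZMod 2, t = 0 ∨ t = 1 := by decide

theorem sg2_add (s t : ZMod 2) : sg2 (s + t) = sg2 s * sg2 t := by
  rcases two_cases s with rfl | rfl <;> rcases two_cases t with rfl | rfl
  · rw [add_zero, sg2_zero, mul_one]
  · rw [zero_add, sg2_zero, one_mul]
  · rw [add_zero, sg2_zero, mul_one]
  · rw [show (1 + 1 : ZMod 2) = 0 by decide, sg2_zero, sg2_one]; norm_num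

variable (ι) in
/-- the characters of the nodes -/
noncomputable def psi (i : Fin (k + 2)) (g : Y) : ℂ := sg2 (en (ι g : Mt k) i (i + 1))

variable (ι) in
/-- the additional character -/
noncomputable def eta (g : Y) : ℂ := sg2 (ph (ι g : Mt k) + en (ι g : Mt k) k (k + 1))

theorem ip_ix {p q : ℕ} (hp : p < 2 * k + 4) (hq : q < 2 * k + 4) :
    ip (wt (ix k p)) (wt (ix k q)) = if p = q then 1 else if p + q = 2 * k + 3 then -1 else 0 := by
  split_ifs with h1 h2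
  · rw [h1, ip_wt_self]
  · rw [ix_bar h2, ip_wt_ng]
  · refine ip_wt_ne fun e => ?_
    rcases ok_ix hp hq h1 with h3 | h3
    · exact h3 e
    · have h4 := ps_ng (ix k q)
      rw [← h3, ps_ix hp, ps_ix hq] at h4
      exact h2 h4

theorem RP.cpr {x y : Fin (k + 2) → ℤ} {p q r s : ℕ} (h : RP x p q) (h' : RP y r s) (hp : p < 2 * k + 4)
    (hq : q < 2 * k + 4) (hr : r < 2 * k + 4) (hs : s < 2 * k + 4) (hrs : r ≠ s) {c : ℤ}
    (hc : 2 * (((if p = r then 1 else if p + r = 2 * k + 3 then -1 else 0) -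
      (if q = r then 1 else if q + r = 2 * k + 3 then -1 else 0)) -
      ((if p = s then 1 else if p + s = 2 * k + 3 then -1 else 0) -
      (if q = s then 1 else if q + s = 2 * k + 3 then -1 else 0))) = c * if r + s = 2 * k + 3 then 4 else 2) :
    cpr (csC (k + 2)) (isCartan (k + 2)) x y = c := by
  refine cprC (h'.isRoot _ hr hs hrs) ?_
  rw [h, h', wt_ng, wt_ng, ← sub_eq_add_neg, ← sub_eq_add_neg]
  simp only [ip_sub_left, ip_sub_right, ip_wt_self, ip_ix hp hr, ip_ix hp hs, ip_ix hq hr, ip_ix hq hs, ip_ix hr hs,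
    ip_ix hs hr]
  rw [hc, if_neg hrs, if_neg hrs.symm]
  congr 1
  split_ifs <;> omega

theorem uniq_ab (i j : Fin (k + 2)) (h : IsRoot (csC (k + 2)) (isCartan (k + 2)) (sr i + sr j + sr j)) :
    i = na k ∧ j = nb k := by
  obtain ⟨a, b, -, e⟩ := exists_of_isRoot _ h
  have h1 := congrArg (Cf j) e
  rw [ee_add, ee_add, ee_sr, ee_sr, Cf_add, Cf_add, Cf_add, Cf_bt_self, show Cf j (bt i) = A (k + 2) j i from rfl,
    A_apply] at h1
  have h2 := Cf_wtC j a
  have h3 := Cf_wtC j b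
  have h4 := i.2
  rw [Fin.ext_iff, Fin.ext_iff, Fin.val_last, Fin.val_castSucc, Fin.val_last]
  split_ifs at h1 <;> omega

namespace Md

variable (m : Md ι n X)
include m

theorem tu {u : Y} (hu : u ∈ UU (csC (k + 2)) (isCartan (k + 2)) X) : Tu (ι u : Mt k) :=
  sup_ind (C := fun u => Tu (ι u : Mt k)) hu (fun x hx u hu => by
    obtain ⟨s, e⟩ := (m.hX x hx.1 u).1 hu
    rw [← e]
    exact tu_x hx.1 hx.2 s) (by rw [map_one]; exact tu_one) fun u v hu hv => by rw [map_mul]; exact hu.mul hv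

theorem eq_x {x : Fin (k + 2) → ℤ} (hx : IsRoot (csC (k + 2)) (isCartan (k + 2)) x) {u : Y} (hu : u ∈ X x) (h1 : u ≠ 1) :
    ι u = (mnC (k + 2)).x (ZMod 2) x 1 := by
  obtain ⟨s, e⟩ := (m.hX x hx u).1 hu
  rcases two_cases s with rfl | rfl
  · rw [Mn.x_zero _ hx, ← map_one ι] at e
    exact absurd (m.inj e).symm h1
  · exact e.symm

theorem en_zero {x : Fin (k + 2) → ℤ} (hx : IsRoot (csC (k + 2)) (isCartan (k + 2)) x) {u : Y} (hu : u ∈ X x) {p q : ℕ}
    (h1 : p < q) (h2 : q < 2 * k + 4) (h3 : ¬ RP x p q) : en (ι u : Mt k) p q = 0 := by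
  obtain ⟨s, e⟩ := (m.hX x hx u).1 hu
  rw [← e, en_x hx s (by omega) h2, if_neg h1.ne, if_neg h3, add_zero]

theorem en_eq {x : Fin (k + 2) → ℤ} (hx : IsRoot (csC (k + 2)) (isCartan (k + 2)) x) {u : Y} (hu : u ∈ X x) (h0 : u ≠ 1)
    {p q : ℕ} (h1 : p < q) (h2 : q < 2 * k + 4) (h3 : RP x p q) : en (ι u : Mt k) p q = 1 := by
  rw [m.eq_x hx hu h0, en_x hx 1 (by omega) h2, if_neg h1.ne, if_pos h3, zero_add]

theorem sg_psi (i : Fin (k + 2)) : Sg (csC (k + 2)) (isCartan (k + 2)) X {sr i} (psi ι i) where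
  one := by rw [psi, map_one, Units.val_one, en_one (by omega) (by omega), if_neg (by omega), sg2_zero]
  mul u hu v hv := by rw [psi, map_mul, Units.val_mul, sup_mul' (m.tu hu) (m.tu hv) i.2, sg2_add, psi, psi]
  neg x hx h1 u hu h2 := by rw [psi, m.en_eq hx.1 hu h2 (by omega) (by omega) (h1 ▸ rp_sr i), sg2_one]
  pos x hx h1 u hu := by rw [psi, m.en_zero hx.1 hu (by omega) (by omega) fun r => h1 (r.unique (rp_sr i)), sg2_zero]

theorem sg_eta : Sg (csC (k + 2)) (isCartan (k + 2)) X {sr (na k) + sr (nb k), sr (na k) + sr (nb k) + sr (nb k)}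
    (eta ι) where
  one := by
    rw [eta, ph, map_one, Units.val_one]
    repeat rw [en_one (by omega) (by omega), if_neg (by omega)]
    simp [sg2_zero]
  mul u hu v hv := by
    rw [eta, map_mul, Units.val_mul, sup_mul' (m.tu hu) (m.tu hv) (by omega), ph_mul (m.tu hu).1 (m.tu hv).1, eta, eta,
      ← sg2_add]
    congr 1
    ring
  neg x hx h1 u hu h2 := by
    rcases h1 with rfl | rfl
    · rw [eta, ph, m.en_eq hx.1 hu h2 (by omega) (by omega) rp_ab,
        m.en_zero (p := k) (q := k + 1) hx.1 hu (by omega) (by omega) (by rw [rp_ab.iff] <;> omega),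
        m.en_zero (p := k) (q := k + 3) hx.1 hu (by omega) (by omega) (by rw [rp_ab.iff] <;> omega)]
      simp [sg2_one]
    · rw [eta, ph, m.en_eq hx.1 hu h2 (by omega) (by omega) rp_abb,
        m.en_zero (p := k) (q := k + 1) hx.1 hu (by omega) (by omega) (by rw [rp_abb.iff] <;> omega),
        m.en_zero (p := k) (q := k + 2) hx.1 hu (by omega) (by omega) (by rw [rp_abb.iff] <;> omega)]
      simp [sg2_one]
  pos x hx h1 u hu := by
    rw [eta, ph, m.en_zero (p := k) (q := k + 2) hx.1 hu (by omega) (by omega) fun r => h1 (Or.inl (r.unique rp_ab)),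
      m.en_zero (p := k) (q := k + 3) hx.1 hu (by omega) (by omega) fun r => h1 (Or.inr (r.unique rp_abb)), zero_add,
      mul_zero, add_zero, add_zero, CharTwo.add_self_eq_zero, sg2_zero]

/-- the root elements -/
theorem exists_xr : ∃ z : (Fin (k + 2) → ℤ) → Y, ∀ a, IsRoot (csC (k + 2)) (isCartan (k + 2)) a →
    ι (z a) = (mnC (k + 2)).x (ZMod 2) a 1 := by
  classical
  exact ⟨fun a => if h : IsRoot (csC (k + 2)) (isCartan (k + 2)) a then (m.ex a h).choose else 1, fun a ha => by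
    simp only [dif_pos ha]
    exact (m.ex a ha).choose_spec⟩

theorem supp {z : (Fin (k + 2) → ℤ) → Y} (hz : ∀ a, IsRoot (csC (k + 2)) (isCartan (k + 2)) a →
    ι (z a) = (mnC (k + 2)).x (ZMod 2) a 1) {L : Y → ℂ} (s : Sn (UU (csC (k + 2)) (isCartan (k + 2)) X) L) :
    (∀ x ∈ RGD.Pos (csC (k + 2)) (isCartan (k + 2)), (∃ i, x = sr i) ∨ x = sr (na k) + sr (nb k) ∨
      x = sr (na k) + sr (nb k) + sr (nb k) ∨ L (z x) = 1) ∧
    L (z (sr (na k) + sr (nb k))) * L (z (sr (na k) + sr (nb k) + sr (nb k))) = 1 := by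
  have h0 : ∀ {x p q}, RP x p q → p < q → q < 2 * k + 4 → z x ∈ UU (csC (k + 2)) (isCartan (k + 2)) X := by
    intro x p q r h1 h2
    have hx := r.isRoot (csC (k + 2)) (by omega) h2 h1.ne
    exact X_le_UU hx ((r.nonneg hx (by omega) h2 h1.ne).2 h1) ((m.hX x hx _).2 ⟨1, (hz x hx).symm⟩)
  have hc : ∀ u ∈ UU (csC (k + 2)) (isCartan (k + 2)) X, ∀ v ∈ UU (csC (k + 2)) (isCartan (k + 2)) X, L ⁅u, v⁆ = 1 :=
    fun u hu v hv => by
      rw [commutatorElement_def, s.mul _ (mul_mem (mul_mem hu hv) (inv_mem hu)) _ (inv_mem hv), s.cl v hv u hu, s.inv hv,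
        s.self hv]
  have h1 : ∀ {x p q}, RP x p q → q < 2 * k + 4 → p + q ≠ 2 * k + 3 → ∀ r, p < r → r < q → p + r ≠ 2 * k + 3 →
      q + r ≠ 2 * k + 3 → L (z x) = 1 := by
    intro x p q rx h2 h3 r h4 h5 h6 h7
    obtain ⟨a, ha, ra⟩ := exists_rp_root (csC (k + 2)) (p := p) (q := r) (by omega) (by omega) h4.ne
    obtain ⟨b, hb, rb⟩ := exists_rp_root (csC (k + 2)) (p := r) (q := q) (by omega) h2 h5.ne
    have h8 := (mnC (k + 2)).comm_one (K := ZMod 2) ha hb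
      (ra.cpr rb (by omega) (by omega) (by omega) h2 h5.ne (by split_ifs <;> omega))
      (rb.cpr ra (by omega) h2 (by omega) (by omega) h4.ne (by split_ifs <;> omega)) 1 1
    rw [mul_one, ← rx.unique (ra.add rb), ← hz a ha, ← hz b hb, ← hz x (rx.isRoot _ (by omega) h2 (by omega)),
      ← map_commutatorElement] at h8
    rw [← m.inj h8]
    exact hc _ (h0 ra h4 (by omega)) _ (h0 rb h5 h2)
  have h2 : ∀ {x y p q}, p ≤ k → p + q = 2 * k + 3 → RP x p (k + 2) → RP y p q → L (z x) * L (z y) = 1 := by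
    intro x y p q h2 h3 rx ry
    obtain ⟨a, ha, ra⟩ := exists_rp_root (csC (k + 2)) (p := p) (q := k + 1) (by omega) (by omega) (by omega)
    have hb := isRoot_sr (csC (k + 2)) (isCartan (k + 2)) (na k)
    have h8 := (mnC (k + 2)).comm_two (K := ZMod 2) ha hb
      (ra.cpr rp_a (by omega) (by omega) (by omega) (by omega) (by omega) (by split_ifs <;> omega))
      (rp_a.cpr ra (by omega) (by omega) (by omega) (by omega) (by omega) (by split_ifs <;> omega)) 1 1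
    rw [mul_one, mul_one, ← ry.unique ((ra.add rp_a).add (ra.bar h3 (by omega))), ← rx.unique (ra.add rp_a), ← hz a ha,
      ← hz _ hb, ← hz x (rx.isRoot _ (by omega) (by omega) (by omega)),
      ← hz y (ry.isRoot _ (by omega) (by omega) (by omega)), ← map_commutatorElement, ← map_mul] at h8
    rw [← s.mul _ (h0 rx (by omega) (by omega)) _ (h0 ry (by omega) (by omega)), ← m.inj h8]
    exact hc _ (h0 ra (by omega) (by omega)) _ (h0 rp_a (by omega) (by omega))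
  refine ⟨fun x hx => ?_, h2 le_rfl (by omega) rp_ab rp_abb⟩
  obtain ⟨p, q, h3, h4, r⟩ := exists_pos_pq hx.1 hx.2
  rw [r.eq_iff rp_ab h3 h4 (by omega) (by omega), r.eq_iff rp_abb h3 h4 (by omega) (by omega)]
  by_cases h5 : q = p + 1
  · simp only [r.eq_sr h3 h4]
    by_cases h6 : p < k + 2
    · exact Or.inl ⟨⟨p, h6⟩, Or.inl ⟨rfl, h5⟩⟩
    · exact Or.inl ⟨⟨2 * k + 2 - p, by omega⟩, Or.inr (by simp only; omega)⟩
  by_cases h6 : (p = k ∧ q = k + 2) ∨ (p = k + 1 ∧ q = k + 3) ∨ (p = k ∧ q = k + 3)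
  · exact Or.inr (by omega)
  refine Or.inr (Or.inr (Or.inr ?_))
  by_cases h7 : p + q = 2 * k + 3
  · obtain ⟨a, ha, ra⟩ := exists_rp_root (csC (k + 2)) (p := p) (q := k + 2) (by omega) (by omega) (by omega)
    have h8 := h2 (by omega) h7 ra r
    rwa [h1 ra (by omega) (by omega) (p + 1) (by omega) (by omega) (by omega) (by omega), one_mul] at h8
  by_cases h8 : p + (p + 1) = 2 * k + 3 ∨ q + (p + 1) = 2 * k + 3
  · exact h1 r h4 h7 (p + 2) (by omega) (by omega) (by omega) (by omega)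
  · exact h1 r h4 h7 (p + 1) (by omega) (by omega) (by omega) (by omega)

omit m in
theorem sg_unique {S : Set (Fin (k + 2) → ℤ)} {l l' : Y → ℂ} (s : Sg (csC (k + 2)) (isCartan (k + 2)) X S l)
    (s' : Sg (csC (k + 2)) (isCartan (k + 2)) X S l') {u : Y} (hu : u ∈ UU (csC (k + 2)) (isCartan (k + 2)) X) :
    l u = l' u :=
  (sup_ind (C := fun u => u ∈ UU (csC (k + 2)) (isCartan (k + 2)) X ∧ l u = l' u) hu (fun x hx u hu =>
    ⟨X_le_UU hx.1 hx.2 hu, by
      by_cases h1 : x ∈ S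
      · by_cases h2 : u = 1
        · rw [h2, s.one, s'.one]
        · rw [s.neg x hx h1 u hu h2, s'.neg x hx h1 u hu h2]
      · rw [s.pos x hx h1 u hu, s'.pos x hx h1 u hu]⟩) ⟨one_mem _, by rw [s.one, s'.one]⟩ fun u v hu hv =>
    ⟨mul_mem hu.1 hv.1, by rw [s.mul u hu.1 v hv.1, s'.mul u hu.1 v hv.1, hu.2, hv.2]⟩).2

theorem all (l : UU (csC (k + 2)) (isCartan (k + 2)) X →* ℂˣ) : ∃ (J : Finset (Fin (k + 2))) (e : ℕ),
    ∀ u : UU (csC (k + 2)) (isCartan (k + 2)) X, (l u : ℂ) = eta ι u ^ e * ∏ i ∈ J, psi ι i u := by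
  classical
  obtain ⟨z, hz⟩ := m.exists_xr
  obtain ⟨L, hL⟩ : ∃ L : Y → ℂ, ∀ u (hu : u ∈ UU (csC (k + 2)) (isCartan (k + 2)) X), L u = l ⟨u, hu⟩ :=
    ⟨fun u => if hu : u ∈ UU (csC (k + 2)) (isCartan (k + 2)) X then l ⟨u, hu⟩ else 1, fun u hu => dif_pos hu⟩
  have h1 : L 1 = 1 := by rw [hL 1 (one_mem _)]; exact congrArg Units.val (map_one l)
  have h2 : ∀ u ∈ UU (csC (k + 2)) (isCartan (k + 2)) X, ∀ v ∈ UU (csC (k + 2)) (isCartan (k + 2)) X,
      L (u * v) = L u * L v := fun u hu v hv => by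
    rw [hL u hu, hL v hv, hL _ (mul_mem hu hv), ← Units.val_mul, ← map_mul]
    rfl
  have h3 : ∀ x ∈ RGD.Pos (csC (k + 2)) (isCartan (k + 2)), ∀ u ∈ X x, u ≠ 1 → u = z x := fun x hx u hu h =>
    m.inj ((m.eq_x hx.1 hu h).trans (hz x hx.1).symm)
  have s : Sg (csC (k + 2)) (isCartan (k + 2)) X {x | L (z x) ≠ 1} L := ⟨h1, h2, fun x hx h4 u hu h5 => by
    have h6 := X_le_UU hx.1 hx.2 hu
    have h7 : u * u = 1 := m.inj (by
      rw [map_mul, map_one, m.eq_x hx.1 hu h5, ← Mn.x_add, CharTwo.add_self_eq_zero, Mn.x_zero _ hx.1])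
    have h8 := h2 u h6 u h6
    rw [h7, h1] at h8
    exact (mul_self_eq_one_iff.1 h8.symm).resolve_left (h3 x hx u hu h5 ▸ h4), fun x hx h4 u hu => by
    by_cases h5 : u = 1
    · rw [h5, h1]
    · rw [h3 x hx u hu h5]
      exact not_not.1 h4⟩
  obtain ⟨h4, h5⟩ := m.supp hz (sn_of_sg s)
  have h6 : ∀ i, sr (na k) + sr (nb k) ≠ sr i ∧ sr (na k) + sr (nb k) + sr (nb k) ≠ sr i := fun i => by
    rw [Ne, Ne, rp_ab.eq_sr (by omega) (by omega), rp_abb.eq_sr (by omega) (by omega)]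
    omega
  have h7 : L (z (sr (na k) + sr (nb k))) = 1 ↔ L (z (sr (na k) + sr (nb k) + sr (nb k))) = 1 :=
    ⟨fun h => by rwa [h, one_mul] at h5, fun h => by rwa [h, mul_one] at h5⟩
  refine ⟨Finset.univ.filter fun i => L (z (sr i)) ≠ 1, ?_⟩
  by_cases h8 : L (z (sr (na k) + sr (nb k))) = 1
  · refine ⟨0, fun u => ?_⟩
    rw [pow_zero, one_mul, ← hL u u.2]
    refine sg_unique s (sg_prod m.sg_psi _ fun x hx => ⟨fun h => ?_, ?_⟩) u.2
    · rcases h4 x hx with ⟨i, rfl⟩ | rfl | rfl | h9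
      exacts [⟨i, Finset.mem_filter.2 ⟨Finset.mem_univ _, h⟩, rfl⟩, absurd h8 h, absurd (h7.1 h8) h, absurd h9 h]
    · rintro ⟨i, hi, rfl⟩
      exact (Finset.mem_filter.1 hi).2
  · refine ⟨1, fun u => ?_⟩
    rw [pow_one, ← hL u u.2]
    refine sg_unique s (sg_times m.sg_eta (sg_prod (S := {x | ∃ i ∈ Finset.univ.filter fun i => L (z (sr i)) ≠ 1, x = sr i})
      m.sg_psi _ fun x hx => Iff.rfl) fun x hx => ⟨⟨fun h => ?_, ?_⟩, ?_⟩) u.2
    · rcases h4 x hx with ⟨i, rfl⟩ | rfl | rfl | h9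
      exacts [Or.inr ⟨i, Finset.mem_filter.2 ⟨Finset.mem_univ _, h⟩, rfl⟩, Or.inl (Or.inl rfl), Or.inl (Or.inr rfl),
        absurd h9 h]
    · rintro ((rfl | rfl) | ⟨i, hi, rfl⟩)
      exacts [h8, mt h7.2 h8, (Finset.mem_filter.1 hi).2]
    · rintro ⟨rfl | rfl, i, -, e⟩
      exacts [(h6 i).1 e, (h6 i).2 e]

theorem dat : Dat (csC (k + 2)) (isCartan (k + 2)) X (na k) (nb k) (psi ι) (eta ι) where
  ne := fun e => by have := congrArg Fin.val e; simp at this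
  r1 := rp_ab.isRoot _ (by omega) (by omega) (by omega)
  r2 := rp_abb.isRoot _ (by omega) (by omega) (by omega)
  uniq := uniq_ab
  psi := m.sg_psi
  eta := m.sg_eta
  all := m.all

theorem ext : ∃ β σ Q, Ex (csC (k + 2)) n X (psi ι) (eta ι) β σ Q := by
  refine ⟨fun g => sg2 (ph (ι g : Mt k)) * ∏ i ∈ (Finset.univ.erase (na k)).erase (nb k), psi ι i g,
    fun g => sg2 (sn (ι g : Mt k)),
    { carrier := {g | Tr (ι g : Mt k)}
      one_mem' := by show Tr _; rw [map_one]; exact tu_one.1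
      mul_mem' := fun ha hb => by show Tr _; rw [map_mul]; exact Tr.mul ha hb },
    fun u hu => (m.tu hu).1, by show Tr _; rw [m.hn]; exact tr_n, fun u hu v hv => ?_, fun u hu v hv => ?_,
    fun u hu => ?_, fun u hu => ?_⟩
  · rw [map_mul, Units.val_mul, ph_mul hu hv, sg2_add, mul_mul_mul_comm, ← Finset.prod_mul_distrib]
    refine congrArg _ (Finset.prod_congr rfl fun i hi => ?_)
    simp only [Finset.mem_erase, ne_eq, Fin.ext_iff, Fin.val_last, Fin.val_castSucc] at hi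
    rw [psi, map_mul, Units.val_mul, sup_mul hu hv (by omega), sg2_add, psi, psi]
  · rw [map_mul, Units.val_mul, sn_mul hu hv, sg2_add]
  · rw [lz, mul_right_comm, eta, psi, ← sg2_add]
    congr 2
    rw [add_assoc]
    exact ((congrArg _ (CharTwo.add_self_eq_zero _)).trans (add_zero _)).symm
  · rw [sn_tu (m.tu hu)]
    rfl

end Md

/-- **The datum of a group isomorphic to `Sp_{2n}(2)`.** -/
theorem sp2_iso {F : Type} [Field F] [Fintype F] (hF : Fintype.card F = 2) (e : Y ≃* Matrix.symplecticGroup (Fin (k + 2)) F) :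
    ∃ (n : Fin (k + 2) → Y) (X : (Fin (k + 2) → ℤ) → Subgroup Y) (ψ : Fin (k + 2) → Y → ℂ) (η : Y → ℂ),
      RGD (csC (k + 2)) (isCartan (k + 2)) 2 ⊥ n X ∧ GG (csC (k + 2)) (isCartan (k + 2)) ⊥ X = ⊤ ∧
      Dat (csC (k + 2)) (isCartan (k + 2)) X (Fin.last (k + 1)) (Fin.last k).castSucc ψ η ∧
      MF (csC (k + 2)) (isCartan (k + 2)) X (Fin.last (k + 1)) (Fin.last k).castSucc ψ η := by
  have : CharP F 2 := (CharP.charP_iff_prime_eq_zero Nat.prime_two).2 (hF ▸ Nat.cast_card_eq_zero F)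
  obtain ⟨n, X, R, hG, m⟩ := exists_md (ι := (ioC (ZMod.ringEquiv F hF).symm.toRingHom).comp e.toMonoidHom)
    ((ioC_inj _).comp e.injective) (by
      rw [MonoidHom.range_comp, MonoidHom.range_eq_top.2 e.surjective, ← MonoidHom.range_eq_map]
      exact range_ioC _ (e := 1) hF)
  obtain ⟨β, σ, Q, E⟩ := m.ext
  exact ⟨n, X, _, _, R, hG, m.dat, mf R hG m.dat E⟩

/-- **The datum of a group isomorphic to `PSp_{2n}(2)`.** -/
theorem psp2_iso {F : Type} [Field F] [Fintype F] (hF : Fintype.card F = 2) (e : Y ≃* PSp (k + 2) F) :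
    ∃ (n : Fin (k + 2) → Y) (X : (Fin (k + 2) → ℤ) → Subgroup Y) (ψ : Fin (k + 2) → Y → ℂ) (η : Y → ℂ),
      RGD (csC (k + 2)) (isCartan (k + 2)) 2 ⊥ n X ∧ GG (csC (k + 2)) (isCartan (k + 2)) ⊥ X = ⊤ ∧
      Dat (csC (k + 2)) (isCartan (k + 2)) X (Fin.last (k + 1)) (Fin.last k).castSucc ψ η ∧
      MF (csC (k + 2)) (isCartan (k + 2)) X (Fin.last (k + 1)) (Fin.last k).castSucc ψ η := by
  have : CharP F 2 := (CharP.charP_iff_prime_eq_zero Nat.prime_two).2 (hF ▸ Nat.cast_card_eq_zero F)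
  exact sp2_iso hF (e.trans (spEquivC (k + 2) F))

end Cfsg.Agent.MK.Sp2.B
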