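import Cfsg.Agent.MK.T.A
import Cfsg.Agent.Nodes.LeviDec
import Cfsg.Agent.OddOrderCharacters.Clifford

/-!
# MK, `Sp_{2n}(2)`: the interface (helper82)

`R : RGD cs h 2 ⊥ n X` a root group datum of a finite group `Y` with trivial torus, `UU = Sup X Pos`.

* `Sg S l` : `l` is the sign character of `U` which is non-trivial exactly on the root groups of `S`;
* `Dat a b ψ η` : `a` (long), `b` (short) the last two nodes, `ψ i` the character of the node `i`, `η` the character of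
  `{a + b, a + 2 b}`; all linear characters of `U` are products of them;
* `phB`, `phC` : the functions on `U` which induce the Gelfand-Graev character and `Gc`;
* `MF` : all multiplicities in `Γ ± Gc` are `0`, `1`, `-1`.
-/

set_option autoImplicit false

namespace Cfsg.Agent.MK.Sp2

open CoxeterSystem Cfsg Cfsg.Agent.ChevalleyStructure.CoxeterGeom Cfsg.Agent.Tits.Roots Cfsg.Agent.Nodes.BNOf
  Cfsg.Agent.OddOrderCharacters.Clifford

variable {I W Y : Type} [Fintype I] [DecidableEq I] [Group W] [Group Y] {M : CoxeterMatrix I}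
  (cs : CoxeterSystem M W) {A : I → I → ℤ} (h : IsCartan M A) (X : (I → ℤ) → Subgroup Y)

/-- the unipotent group -/
abbrev UU : Subgroup Y := RGD.Sup X (RGD.Pos cs h)

/-- the sign character of `U` with support `S` -/
structure Sg (S : Set (I → ℤ)) (l : Y → ℂ) : Prop where
  one : l 1 = 1
  mul : ∀ u ∈ UU cs h X, ∀ v ∈ UU cs h X, l (u * v) = l u * l v
  neg : ∀ x ∈ RGD.Pos cs h, x ∈ S → ∀ u ∈ X x, u ≠ 1 → l u = -1
  pos : ∀ x ∈ RGD.Pos cs h, x ∉ S → ∀ u ∈ X x, l u = 1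

/-- the linear characters of `U` -/
structure Dat (a b : I) (ψ : I → Y → ℂ) (η : Y → ℂ) : Prop where
  ne : a ≠ b
  r1 : IsRoot cs h (sr a + sr b)
  r2 : IsRoot cs h (sr a + sr b + sr b)
  uniq : ∀ i j, IsRoot cs h (sr i + sr j + sr j) → i = a ∧ j = b
  psi : ∀ i, Sg cs h X {sr i} (ψ i)
  eta : Sg cs h X {sr a + sr b, sr a + sr b + sr b} η
  all : ∀ l : UU cs h X →* ℂˣ, ∃ (J : Finset I) (e : ℕ), ∀ u : UU cs h X, (l u : ℂ) = η u ^ e * ∏ i ∈ J, ψ i u

/-- the regular character -/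
noncomputable def phB (ψ : I → Y → ℂ) (u : Y) : ℂ := ∏ i, ψ i u

/-- the alternating sum of the four characters -/
noncomputable def phC (a b : I) (ψ : I → Y → ℂ) (η : Y → ℂ) (u : Y) : ℂ :=
  η u * (∏ i ∈ (Finset.univ.erase a).erase b, ψ i u) * ((1 - ψ a u) * (1 - ψ b u))

/-- the multiplicities in `Γ ± Gc` -/
def MF [Fintype Y] (a b : I) (ψ : I → Y → ℂ) (η : Y → ℂ) : Prop :=
  ∃ σ : ℂ, (σ = 1 ∨ σ = -1) ∧ ∀ χ : Y → ℂ, IsIrrCharacter Y χ → ∀ m : ℂ,
    m = classInner (indFun (UU cs h X) fun u => phB ψ u + σ * phC a b ψ η u) χ → m = 0 ∨ m = 1 ∨ m = -1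

end Cfsg.Agent.MK.Sp2
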