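import Cfsg.Agent.H45.GG.Cusp

/-!
# MK, `Sp_{2n}(2)`: the elements `w_K w₀` (helper82)

* `Asc w` : the simple roots which are made positive by `w`;
* `Op K w` : `w⁻¹` makes exactly the positive roots of `K` positive.
-/

set_option autoImplicit false
set_option linter.unusedSectionVars false

namespace Cfsg.Agent.MK.Sp2

open Cfsg.Agent.H53.HC Cfsg.Agent.H641.Gow Cfsg.Agent.H45.GG
open CoxeterSystem Cfsg.Agent.ChevalleyStructure.CoxeterGeom Cfsg.Agent.Tits.Roots Cfsg.Agent.Tits.Core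
  Cfsg.Agent.Tits.Exchange Cfsg.Agent.Nodes.Reps Cfsg.Agent.Nodes.BNOf Cfsg.Agent.Nodes.StabComb

variable {I W : Type} [Fintype I] [DecidableEq I] [Group W] {M : CoxeterMatrix I}
  (cs : CoxeterSystem M W) {A : I → I → ℤ} (h : IsCartan M A)

/-- the simple roots which are made positive -/
noncomputable def Asc (w : W) : Finset I := by
  classical
  exact Finset.univ.filter fun i => 0 ≤ rep cs h w (sr i)

/-- `w = w_K w₀` -/
def Op (K : Set I) (w : W) : Prop :=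
  (∀ x ∈ PosJ cs h K, 0 ≤ rep cs h w⁻¹ x) ∧ ∀ x ∈ NotJ cs h K, rep cs h w⁻¹ x ≤ 0

variable {cs h} {J K K' : Set I} {w w' : W}

theorem mem_Asc {i : I} : i ∈ Asc cs h w ↔ 0 ≤ rep cs h w (sr i) := by
  simp [Asc]

theorem minR_iff : IsMinR cs J w ↔ ∀ i ∈ J, 0 ≤ rep cs h w (sr i) := by
  rw [isMinR_iff]
  exact forall₂_congr fun i _ => lt_iff' cs h w i

theorem minL_iff : IsMinL cs K w ↔ ∀ i ∈ K, 0 ≤ rep cs h w⁻¹ (sr i) := by
  rw [← isMinR_inv_iff, minR_iff (h := h)]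

theorem sr_inj {i j : I} (e : (sr i : I → ℤ) = sr j) : i = j := by
  by_contra h1
  have h2 := congrFun e i
  rw [sr_self, sr_ne h1] at h2
  exact one_ne_zero h2

theorem sr_not_nonpos (i : I) : ¬ (sr i : I → ℤ) ≤ 0 := fun h1 => absurd (h1 i) (by rw [sr_self]; simp)

theorem sr_not_NotJ {i : I} (hi : i ∈ J) : sr i ∉ NotJ cs h J := by
  rintro ⟨-, -, k, hk, h1⟩
  rw [sr_ne (by rintro rfl; exact hk hi)] at h1
  exact lt_irrefl _ h1

theorem coord_le {y : I → ℤ} (hy : 0 ≤ y) {l : I} (hl : ∀ m, rep cs h w (sr m) l ≤ 0) (k : I) :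
    rep cs h w y l ≤ y k * rep cs h w (sr k) l := by
  conv_lhs => rw [eq_sum_sr y, map_sum, Finset.sum_apply]
  simp only [map_smul, Pi.smul_apply, smul_eq_mul]
  rw [← Finset.add_sum_erase _ _ (Finset.mem_univ k)]
  exact add_le_of_nonpos_right (Finset.sum_nonpos fun m _ => mul_nonpos_of_nonneg_of_nonpos (hy m) (hl m))

theorem op_of (h1 : ∀ j ∈ K, 0 ≤ rep cs h w⁻¹ (sr j)) (h2 : ∀ i, rep cs h w (sr i) ∉ NotJ cs h K) : Op cs h K w := by
  refine ⟨fun x hx => rep_nonneg_of_supp h1 hx.2.1 hx.2.2, fun x ⟨hx, _, k, hk, h3⟩ => ?_⟩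
  refine (hx.act w⁻¹).pos_or_neg.resolve_left fun h4 => ?_
  have h5 : ∀ m, rep cs h w (sr m) k ≤ 0 := fun m => by
    rcases ((isRoot_sr cs h m).act w).pos_or_neg with h6 | h6
    · exact not_lt.1 fun h7 => h2 m ⟨(isRoot_sr cs h m).act w, h6, k, hk, h7⟩
    · exact h6 k
  have h6 := coord_le h4 h5 k
  rw [rep_apply_inv] at h6
  exact absurd (h6.trans (mul_nonpos_of_nonneg_of_nonpos (h4 k) (h5 k))) (not_le.2 h3)

theorem Op.pos (hw : Op cs h K w) {x : I → ℤ} (hx : IsRoot cs h x) (h0 : 0 ≤ x) (h1 : 0 ≤ rep cs h w x) :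
    rep cs h w x ∈ PosJ cs h K :=
  (mem_PosJ_or_NotJ K (hx.act w) h1).resolve_right fun h2 => hx.not_pos_neg h0 (by
    simpa only [rep_inv_apply] using hw.2 _ h2)

theorem Op.neg (hw : Op cs h K w) {x : I → ℤ} (hx : IsRoot cs h x) (h0 : 0 ≤ x) (h1 : rep cs h w x ≤ 0) :
    -rep cs h w x ∈ NotJ cs h K :=
  (mem_PosJ_or_NotJ K (hx.act w).neg (neg_nonneg.2 h1)).resolve_left fun h2 => hx.not_pos_neg h0 (by
    simpa only [map_neg, rep_inv_apply, neg_nonneg] using hw.1 _ h2)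

theorem Op.uniq (hw : Op cs h K w) (hw' : Op cs h K w') : w = w' := by
  refine (inv_mul_eq_one.1 (eq_one_of_nonneg cs h (w'⁻¹ * w) fun i => ?_)).symm
  rw [rep_mul_apply]
  change 0 ≤ rep cs h w'⁻¹ (rep cs h w (sr i))
  rcases ((isRoot_sr cs h i).act w).pos_or_neg with h1 | h1
  · exact hw'.1 _ (hw.pos (isRoot_sr cs h i) (sr_nonneg i) h1)
  · simpa only [map_neg, neg_nonpos] using hw'.2 _ (hw.neg (isRoot_sr cs h i) (sr_nonneg i) h1)

theorem Op.inv (hw : Op cs h K w) : Op cs h (Asc cs h w) w⁻¹ := by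
  refine op_of (fun j hj => by rw [inv_inv]; exact mem_Asc.1 hj) fun i ⟨_, h1, k, hk, h2⟩ => ?_
  have h3 := ((isRoot_sr cs h k).act w).pos_or_neg.resolve_left (mt mem_Asc.2 hk)
  obtain ⟨-, -, l, hl, h4⟩ := hw.neg (isRoot_sr cs h k) (sr_nonneg k) h3
  have h5 := coord_le (w := w) h1 (l := l) (fun m => by
    rcases ((isRoot_sr cs h m).act w).pos_or_neg with h6 | h6
    · exact ((hw.pos (isRoot_sr cs h m) (sr_nonneg m) h6).2.2 l hl).le
    · exact h6 l) k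
  rw [rep_apply_inv] at h5
  have h6 : (0 : ℤ) ≤ sr i l := sr_nonneg i l
  rw [Pi.neg_apply, neg_pos] at h4
  exact absurd (h6.trans h5) (not_le.2 (mul_neg_of_pos_of_neg h2 h4))

theorem Op.asc (hw : Op cs h K w) : (Asc cs h w⁻¹ : Set I) = K := by
  ext i
  rw [Finset.mem_coe, mem_Asc]
  refine ⟨fun h1 => ?_, fun h1 => hw.1 _ (sr_mem_PosJ h1)⟩
  by_contra h2
  exact ((isRoot_sr cs h i).act w⁻¹).not_pos_neg h1 (hw.2 _ (sr_mem_NotJ h2))

theorem mem_PosRad {i : I} (hi : i ∈ J) : sr i ∈ PosRad cs h J i := ⟨sr_mem_PosJ hi, by rw [sr_self]; exact one_pos⟩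

theorem Mp.diff (hw : Mp cs h K K' w) {i j : I} (e : rep cs h w (sr i) = sr j) : Mp cs h (K \ {j}) (K' \ {i}) w := by
  constructor
  · rintro a ⟨ha, ha'⟩
    obtain ⟨b, hb, e2⟩ := hw.1 a ha
    refine ⟨b, ⟨hb, ?_⟩, e2⟩
    rintro rfl
    exact ha' (sr_inj (rep_injective_apply cs h w (e2.trans e.symm)))
  · rintro a ⟨ha, ha'⟩
    obtain ⟨b, hb, e2⟩ := hw.2 a ha
    refine ⟨b, ⟨hb, ?_⟩, e2⟩
    rintro rfl
    rw [← e2, rep_apply_inv] at e
    exact ha' (sr_inj e)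

theorem Mp.pos (hw : Mp cs h K K' w) {x : I → ℤ} (hx : x ∈ PosJ cs h K') : rep cs h w x ∈ PosJ cs h K :=
  ⟨hx.1.act w, rep_nonneg_of_supp (fun i hi => by
    obtain ⟨j, -, e⟩ := hw.1 i hi
    rw [e]
    exact sr_nonneg j) hx.2.1 hx.2.2, supp_of hw.1 hx.2.2⟩

theorem Mp.rad (hw : Mp cs h K K' w) {i j : I} (e : rep cs h w (sr i) = sr j) {x : I → ℤ}
    (hx : x ∈ PosRad cs h K' i) : rep cs h w x ∈ PosRad cs h K j := by
  refine ⟨Mp.pos hw hx.1, lt_of_lt_of_le ?_ (rep_apply_ge (fun i hi => ?_) hx.1.2.1 hx.1.2.2 i j)⟩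
  · rw [e, sr_self, mul_one]
    exact hx.2
  · obtain ⟨j, -, e⟩ := hw.1 i hi
    rw [e]
    exact sr_nonneg j

theorem Mp.card_le {K K' : Finset I} (hw : Mp cs h K K' w) : K'.card ≤ K.card := by
  have h1 : ∀ i, ∃ j, i ∈ K' → j ∈ K ∧ rep cs h w (sr i) = sr j := fun i => by
    by_cases hi : i ∈ K'
    · obtain ⟨j, hj⟩ := hw.1 i hi
      exact ⟨j, fun _ => hj⟩
    · exact ⟨i, fun h2 => absurd h2 hi⟩
  choose f hf using h1
  refine Finset.card_le_card_of_injOn f (fun i hi => (hf i hi).1) fun a ha b hb e => ?_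
  exact sr_inj (rep_injective_apply cs h w (by rw [(hf a ha).2, (hf b hb).2, e]))

theorem Mp.card {K K' : Finset I} (hw : Mp cs h K K' w) : K'.card = K.card :=
  le_antisymm (Mp.card_le hw) (Mp.card_le hw.inv)

/-- an alternating sum -/
theorem toggle (i : I) (F : Finset I → ℂ) (hF : ∀ J, i ∉ J → F (insert i J) = F J) :
    ∑ J : Finset I, (-1) ^ J.card * F J = 0 := by
  rw [← Finset.powerset_univ, ← Finset.insert_erase (Finset.mem_univ i),
    Finset.sum_powerset_insert (Finset.notMem_erase i _), ← Finset.sum_add_distrib]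
  refine Finset.sum_eq_zero fun J hJ => ?_
  have h1 : i ∉ J := fun h2 => Finset.notMem_erase i _ (Finset.mem_powerset.1 hJ h2)
  rw [hF J h1, Finset.card_insert_of_notMem h1]
  ring

variable [Finite W]

theorem exists_op (K : Set I) : ∃ w, Op cs h K w := by
  obtain ⟨v, hv⟩ := exists_isLongest cs K
  refine ⟨(w0 cs * v)⁻¹, fun x hx => ?_, fun x hx => ?_⟩
  · rw [inv_inv, rep_mul_apply]
    exact rep_w0_nonneg (hx.1.act v) (rep_longest_nonpos hv hx)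
  · rw [inv_inv, rep_mul_apply]
    exact rep_w0_nonpos (hx.1.act v) (NotJ.act hv.1 hx).2.1

theorem Op.mp (hw : Op cs h K w) : Mp cs h K (Asc cs h w) w := by
  rcases mp_or (K := Asc cs h w) (fun j hj => hw.1 _ (sr_mem_PosJ hj)) (fun i hi => mem_Asc.1 hi) with
    h1 | ⟨j, hj, h1⟩ | ⟨j, hj, h1⟩
  · exact h1
  · have h2 := hw.inv.2 _ (h1 _ (mem_PosRad hj))
    rw [inv_inv, rep_apply_inv] at h2
    exact absurd h2 (sr_not_nonpos j)
  · have h2 := hw.2 _ (h1 _ (mem_PosRad hj))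
    rw [rep_inv_apply] at h2
    exact absurd h2 (sr_not_nonpos j)

theorem sim_or (h1 : ∀ j ∈ K, 0 ≤ rep cs h w⁻¹ (sr j)) (h2 : ∀ i ∈ J, 0 ≤ rep cs h w (sr i)) :
    (∀ j ∈ K, ∃ i ∈ J, rep cs h w⁻¹ (sr j) = sr i) ∨
      ∃ j ∈ K, ∀ x ∈ PosRad cs h K j, rep cs h w⁻¹ x ∈ NotJ cs h J := by
  by_cases hc : ∀ j ∈ K, ∀ k, k ∉ J → rep cs h w⁻¹ (sr j) k = 0
  · refine Or.inl fun j hj => ?_
    have h3 := ht_le_rep h2 (h1 j hj) (hc j hj)
    rw [rep_apply_inv, show ht (sr j : I → ℤ) = 1 by simp [ht, sr]] at h3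
    obtain ⟨k, hk, hk0⟩ := eq_sr_of_ht ((isRoot_sr cs h j).act w⁻¹) (h1 j hj) h3
    refine ⟨k, ?_, hk⟩
    by_contra hkJ
    rw [hc j hj k hkJ] at hk0
    exact lt_irrefl _ hk0
  · push Not at hc
    obtain ⟨i, hi, k, hk, hne⟩ := hc
    refine Or.inr ⟨i, hi, fun x ⟨hx, hxi⟩ => ⟨hx.1.act _, rep_nonneg_of_supp h1 hx.2.1 hx.2.2, k, hk, ?_⟩⟩
    exact lt_of_lt_of_le (mul_pos hxi (lt_of_le_of_ne (h1 i hi k) (Ne.symm hne))) (rep_apply_ge h1 hx.2.1 hx.2.2 i k)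

end Cfsg.Agent.MK.Sp2
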