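import Cfsg.Agent.MK.Sp2.BModel
import Cfsg.Agent.MK.T.B
import Cfsg.Agent.MK.Two.Row
import Cfsg.Agent.Nodes.NormalForm

/-!
# MK, `Sp_{2n}(2)`: the row from the count of the characters of odd degree (helper43)
-/

set_option autoImplicit false

namespace Cfsg.Agent.MK.Sp2

open CoxeterSystem Cfsg Subgroup Cfsg.Agent.ChevalleyStructure.CoxeterGeom Cfsg.Agent.Tits.Roots Cfsg.Agent.Nodes.BNOf
  Cfsg.Agent.Nodes.Bruhat Cfsg.Agent.MK.T

/-- the count for a root group datum with trivial torus -/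
def K0 : Prop :=
  ∀ {I W Y : Type} [Fintype I] [DecidableEq I] [Group W] [Group Y] {M : CoxeterMatrix I} [Fintype W] [Fintype Y]
    {cs : CoxeterSystem M W} {A : I → I → ℤ} {h : IsCartan M A} {n : I → Y} {X : (I → ℤ) → Subgroup Y} {a b : I}
    {ψ : I → Y → ℂ} {η : Y → ℂ}, RGD cs h 2 ⊥ n X → GG cs h ⊥ X = ⊤ → Dat cs h X a b ψ η → MF cs h X a b ψ η →
    k0 Y = k0 (UU cs h X)

theorem m0_of {I W Y : Type} [Fintype I] [DecidableEq I] [Group W] [Group Y] {M : CoxeterMatrix I} [Finite W] [Finite Y]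
    {cs : CoxeterSystem M W} {A : I → I → ℤ} {h : IsCartan M A} {n : I → Y} {X : (I → ℤ) → Subgroup Y}
    (R : RGD cs h 2 ⊥ n X) (hG : GG cs h ⊥ X = ⊤) (e : k0 Y = k0 (UU cs h X)) : M0 Y := by
  have := two_prime
  obtain ⟨P, hP⟩ := R.isPGroup_Upos.exists_le_sylow
  have h1 : (P : Subgroup Y) = UU cs h X := Nodes.NormalForm.eq_U_of_isPGroup R P.isPGroup' hP (hG ▸ le_top)
  have h2 := Nodes.NormalForm.normalizer_U R
  rw [hG, inf_top_eq, RGD.B, bot_sup_eq] at h2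
  refine M0.of_one P ?_
  rw [h1, h2]
  exact e

theorem sm_psp (h : K0) {F : Type} [Field F] [Fintype F] (hF : Fintype.card F = 2) {m : ℕ} (hm : 3 ≤ m) {X : Type}
    [Group X] [Finite X] (hX : IsSimpleGroup X) (e : X ≃* PSp m F) : Sm X := by
  obtain ⟨k, rfl⟩ : ∃ k, m = k + 2 := ⟨m - 2, by omega⟩
  have := Fintype.ofFinite X
  obtain ⟨n, Z, ψ, η, R, hG, D, hM⟩ := B.psp2_iso hF e
  have : CharP F 2 := (CharP.charP_iff_prime_eq_zero Nat.prime_two).2 (hF ▸ Nat.cast_card_eq_zero F)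
  have hZ : center X = ⊥ := by
    refine (Subgroup.eq_bot_iff_forall _).2 fun z hz => (e.trans (ODD.C2.spEquivC (k + 2) F)).map_eq_one_iff.1 ?_
    rw [← Subgroup.mem_bot, ← ODD.C2.center_spC]
    exact Subgroup.mem_center_iff.2 fun g => by
      obtain ⟨x, rfl⟩ := (e.trans (ODD.C2.spEquivC (k + 2) F)).surjective g
      rw [← map_mul, ← map_mul, Subgroup.mem_center_iff.1 hz]
  refine sm_of_one hZ ?_ (m0_of R hG (h R hG D hM))
  have h1 := ODD.C2.card_aut_psp (F := F) (e := 1) (n := k + 2) hF one_pos hm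
  rw [mul_one, ← Nat.card_congr (MulAut.congr e).toEquiv, ← Nat.card_congr e.toEquiv] at h1
  have h2 := (MulAut.conj : X →* MulAut X).range.card_mul_index
  rw [h1, ← Nat.card_congr (MonoidHom.ofInjective (conj_inj hZ)).toEquiv] at h2
  exact (mul_eq_left₀ Nat.card_pos.ne').1 h2

/-- **the groups `Sp_{2m}(2)`** -/
theorem sp2_of (h : K0) (F : Type) [Field F] [Fintype F] [CharP F 2] (m : ℕ) (hm : 3 ≤ m) (hF : Fintype.card F = 2) :
    Two.GdI (PSp m F) :=
  Two.gdI_of_sm (E.stepSm (E.stepCyc C.stepC)) fun _ _ _ hX e _ => sm_psp h hF hm hX e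

/-- **the row in characteristic two** -/
theorem row_two_of (h : K0) : Row fun S _ => IsLieTypeChar 2 S := Two.row_two_of_sp2 (sp2_of h)

end Cfsg.Agent.MK.Sp2
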