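import Cfsg.Agent.MK.Sp2.Main
import Cfsg.Agent.MK.Sp2.Fin

/-! # MK, `Sp_{2n}(2)`: the end (helper82) -/

set_option autoImplicit false

namespace Cfsg.Agent.MK.Sp2

theorem k0 : K0 := fun R hG D hM => k0_eq R hG D hM

theorem sp2 (F : Type) [Field F] [Fintype F] [CharP F 2] (m : ℕ) (hm : 3 ≤ m) (hF : Fintype.card F = 2) :
    Two.GdI (PSp m F) := sp2_of k0 F m hm hF

end Cfsg.Agent.MK.Sp2
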